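import Cfsg.Agent.H19.Odd.ONSeven
import Cfsg.Agent.KFacts.ON.Aut
import Cfsg.Agent.H19.Odd.Heis

/-!
# Centralizers of the elements of odd prime order in the O'Nan group (helper19)

* `card_eleven`, `card_nineteen`, `card_31` : `|C(y)| = |⟨y⟩|`;
* `seven` : for `u` of order 7 : `|C(u)| ∣ 2^9 * 343` or `|C(u)| ∣ 147`;
* `card_lt` : **the subgroups of odd order of the centralizer of an element of odd prime order have order less than 512**.
-/

set_option autoImplicit false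
set_option linter.unusedSectionVars false
set_option maxRecDepth 100000

namespace Cfsg.Agent.H19.Odd.ONEl

open Subgroup Cfsg
open Cfsg.Spor (ON)
open Cfsg.Spor.ON (Gen)
open Cfsg.Agent.SporadicB.ON45Word (on)
open Cfsg.Agent.KFacts.MulSpor.ON (w)
open Cfsg.Agent.KFacts.ON.Words (conj v)
open Cfsg.Agent.KFacts.ON.Aut (wpow ne_w)
open Cfsg.Agent.KFacts.ON.Cent (finite_ON card_K0)
open Cfsg.Agent.H474.ONC Cfsg.Agent.H19.Odd.ONSeven

theorem card_nineteen {y : ON} (hy : orderOf y = 19) : Nat.card ↥(centralizer ({y} : Set ON)) = 19 := by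
  have h19F : Fact (Nat.Prime 19) := ⟨by norm_num⟩
  have hfin := finite_ON
  obtain ⟨u, hu, h⟩ := exists_nineteen
  rw [card_cent_eq (by rw [card_ON]; norm_num) hy hu, h]

/-! ### order 31 -/

/-- an element of order `31` -/
def x31 : List Gen := [.c, .e, .d, .b, .g]

/-- a conjugating element -/
def u31 : List Gen :=
  [.b, .c, .g, .b, .c, .g, .b, .c, .g, .a, .g, .g, .g, .d, .e, .g, .g, .g, .c, .b, .g, .g, .g, .c, .b, .a, .g, .g, .g, .d,
    .e, .a, .g, .g, .g, .d, .e, .g, .g, .g, .c, .b, .a, .g, .g, .g, .d, .e, .a, .g, .g, .g, .d, .e, .g, .g, .g, .c, .b,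
    .g, .g, .g, .c, .b, .e, .d, .g, .a, .b, .c, .g, .a, .g, .g, .g, .d, .e, .b, .c, .g, .e, .d, .g, .a, .g, .g, .g, .c,
    .b, .a, .g, .g, .g, .d, .e, .a, .g, .g, .g, .d, .e]

theorem ord31 : orderOf (w x31) = 31 := by
  have : Fact (Nat.Prime 31) := ⟨by norm_num⟩
  refine orderOf_eq_prime ?_ ?_
  · rw [wpow]
    exact KFacts.MulSpor.ON.rel KFacts.ON.Words.hs _ (by decide +kernel)
  · exact ne_w x31 [] (by decide +kernel)

theorem conj31 : w u31 * w x31 * (w u31)⁻¹ = w x31 ^ 7 := by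
  rw [wpow]
  exact conj _ _ _ (by decide +kernel)

/-- powers of an element conjugating `x` to `x ^ k` -/
theorem conj_pow_eq {G : Type*} [Group G] {x u : G} {k : ℕ} (h : u * x * u⁻¹ = x ^ k) (n : ℕ) :
    u ^ n * x * (u ^ n)⁻¹ = x ^ k ^ n := by
  induction n with
  | zero => simp
  | succ n ih =>
    have e : u ^ (n + 1) * x * (u ^ (n + 1))⁻¹ = u * (u ^ n * x * (u ^ n)⁻¹) * u⁻¹ := by
      rw [pow_succ']
      group
    rw [e, ih, ← conj_pow, h, ← pow_mul, ← pow_succ']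

theorem fifteen_dvd : 15 ∣ Nat.card ↥((zpowers (w x31)).normalizerMonoidHom).range := by
  have hfin := finite_ON
  refine dvd_range (Y := w u31) (by rw [conj31]; exact pow_mem (mem_zpowers _) 7) fun k hk => ?_
  have h1 := conj_pow_eq conj31 k
  rw [hk, mul_inv_cancel_right] at h1
  have h2 : w x31 ^ 1 = w x31 ^ 7 ^ k := by rw [pow_one]; exact h1
  rw [pow_inj_mod, ord31] at h2
  have h3 : ∀ r < 15, ∀ q : ℕ, 7 ^ (15 * q + r) ≡ 7 ^ r [MOD 31] := by
    intro r _ q
    rw [pow_add, pow_mul]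
    have h5 : (7 ^ 15) ^ q ≡ 1 ^ q [MOD 31] := Nat.ModEq.pow q (by decide)
    rw [one_pow] at h5
    simpa using h5.mul_right (7 ^ r)
  have h4 := h3 (k % 15) (Nat.mod_lt _ (by norm_num)) (k / 15)
  rw [Nat.div_add_mod] at h4
  have h5 : 7 ^ (k % 15) % 31 = 1 := by
    have : 7 ^ k % 31 = 7 ^ (k % 15) % 31 := h4
    rw [← this, ← h2]
  have h6 : k % 15 < 15 := Nat.mod_lt _ (by norm_num)
  apply Nat.dvd_of_mod_eq_zero
  generalize k % 15 = r at h5 h6
  interval_cases r <;> first | rfl | (exfalso; revert h5; decide)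

theorem card_x31 : Nat.card ↥(centralizer ({w x31} : Set ON)) = 31 := by
  have hfin := finite_ON
  have h31F : Fact (Nat.Prime 31) := ⟨by norm_num⟩
  have h5F : Fact (Nat.Prime 5) := ⟨by norm_num⟩
  obtain ⟨z, hz'⟩ : ∃ z, z = w x31 := ⟨_, rfl⟩
  have hz : orderOf z = 31 := by rw [hz', ord31]
  have h15 := fifteen_dvd
  rw [← hz'] at h15 ⊢
  have h2 : ¬ 2 ∣ Nat.card ↥(centralizer ({z} : Set ON)) := no_two hz (by norm_num)
  have h5 : ¬ 5 ∣ Nat.card ↥(centralizer ({z} : Set ON)) := no_five hz (by norm_num)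
  have h49 : ¬ 49 ∣ Nat.card ↥(centralizer ({z} : Set ON)) := no_49 hz n7_31
  have h11 : ¬ 11 ∣ Nat.card ↥(centralizer ({z} : Set ON)) := no_eleven hz (by norm_num)
  have h19 : ¬ 19 ∣ Nat.card ↥(centralizer ({z} : Set ON)) := no_nineteen hz
  have h31 : 31 ∣ Nat.card ↥(centralizer ({z} : Set ON)) := by
    have := dvd_cent (x := z) (y := z) rfl
    rwa [hz] at this
  have h5N : 5 ∣ Nat.card ↥(normalizer ((zpowers z : Subgroup ON) : Set ON)) := by
    rw [CpAutON.Gen.card_normalizer]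
    exact ((by norm_num : 5 ∣ 15).trans h15).mul_left _
  have h7 : ¬ 7 ∣ Nat.card ↥(centralizer ({z} : Set ON)) := by
    obtain ⟨f, hf⟩ := exists_prime_orderOf_dvd_card' 5 h5N
    exact trick7 (f := f) (by rw [orderOf_coe]; exact hf) f.2 h5 h49
  obtain ⟨n, hn, hN⟩ := CpAutON.Gen.card_eq (G := ON) (p := 31) (by rw [card_ON]; norm_num) hz
  have hr := range_dvd hz
  obtain ⟨m, hm⟩ : ∃ m, m = Nat.card ↥((zpowers z).normalizerMonoidHom).range := ⟨_, rfl⟩
  rw [← hm] at hr hN h15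
  rw [card_ON] at hN
  -- the order of the centralizer
  obtain ⟨k, hk, hc⟩ : ∃ k ≤ 4, Nat.card ↥(centralizer ({z} : Set ON)) = 3 ^ k * 31 := by
    have h0 : Nat.card ↥(centralizer ({z} : Set ON)) ∣ 2 ^ 9 * (5 * (7 ^ 3 * (11 * (19 * (3 ^ 4 * 31))))) :=
      (cent_dvd z).trans (by norm_num)
    have cop : ∀ {p : ℕ}, p.Prime → ¬ p ∣ Nat.card ↥(centralizer ({z} : Set ON)) →
      (Nat.card ↥(centralizer ({z} : Set ON))).Coprime p := fun hp h => ((Nat.Prime.coprime_iff_not_dvd hp).2 h).symm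
    have h1 := ((cop Nat.prime_two h2).pow_right 9).dvd_of_dvd_mul_left h0
    have h1 := (cop (by norm_num) h5).dvd_of_dvd_mul_left h1
    have h1 := ((cop (by norm_num) h7).pow_right 3).dvd_of_dvd_mul_left h1
    have h1 := (cop (by norm_num) h11).dvd_of_dvd_mul_left h1
    have h1 := (cop (by norm_num) h19).dvd_of_dvd_mul_left h1
    obtain ⟨a, b, ha, hb, hab⟩ := (Nat.dvd_mul).1 h1
    obtain ⟨k, hk, rfl⟩ := (Nat.dvd_prime_pow Nat.prime_three).1 ha
    refine ⟨k, hk, ?_⟩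
    rcases (Nat.dvd_prime (by norm_num : Nat.Prime 31)).1 hb with rfl | rfl
    · exfalso
      rw [← hab, mul_one] at h31
      have := (Nat.Prime.dvd_of_dvd_pow (by norm_num : Nat.Prime 31) h31)
      revert this
      norm_num
    · exact hab.symm
  rw [hc] at hN ⊢
  have hm30 : m ≤ 30 := Nat.le_of_dvd (by norm_num) hr
  interval_cases m <;> first | (exfalso; revert h15; norm_num; done) | (interval_cases k <;> first | rfl | (exfalso; omega))

theorem card_31 {y : ON} (hy : orderOf y = 31) : Nat.card ↥(centralizer ({y} : Set ON)) = 31 := by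
  have h31F : Fact (Nat.Prime 31) := ⟨by norm_num⟩
  have hfin := finite_ON
  rw [card_cent_eq (by rw [card_ON]; norm_num) hy ord31, card_x31]

theorem no_31 {y : ON} {r : ℕ} (hy : orderOf y = r) (hr : ¬ r ∣ 31) :
    ¬ 31 ∣ Nat.card ↥(centralizer ({y} : Set ON)) := by
  have hfin := finite_ON
  intro h
  obtain ⟨u, hu, huy⟩ := exists_comm (by norm_num : Nat.Prime 31) h
  have h1 := dvd_cent huy.symm
  rw [card_31 hu, hy] at h1
  exact hr h1

theorem no_19 {y : ON} {r : ℕ} (hy : orderOf y = r) (hr : ¬ r ∣ 19) :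
    ¬ 19 ∣ Nat.card ↥(centralizer ({y} : Set ON)) := by
  have hfin := finite_ON
  intro h
  obtain ⟨u, hu, huy⟩ := exists_comm (by norm_num : Nat.Prime 19) h
  have h1 := dvd_cent huy.symm
  rw [card_nineteen hu, hy] at h1
  exact hr h1

/-! ### order 7 -/

theorem cop {p n : ℕ} (hp : p.Prime) (h : ¬ p ∣ n) : n.Coprime p := ((Nat.Prime.coprime_iff_not_dvd hp).2 h).symm

/-- the shape of a divisor of `|O'N|` prime to 5, 11, 19, 31 -/
theorem dvd_of {n : ℕ} (h : n ∣ 460815505920) (h5 : ¬ 5 ∣ n) (h11 : ¬ 11 ∣ n) (h19 : ¬ 19 ∣ n) (h31 : ¬ 31 ∣ n) :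
    n ∣ 2 ^ 9 * (3 ^ 4 * 7 ^ 3) := by
  have h0 : n ∣ 5 * (11 * (19 * (31 * (2 ^ 9 * (3 ^ 4 * 7 ^ 3))))) := h.trans (by norm_num)
  have h1 := (cop (by norm_num) h5).dvd_of_dvd_mul_left h0
  have h1 := (cop (by norm_num) h11).dvd_of_dvd_mul_left h1
  have h1 := (cop (by norm_num) h19).dvd_of_dvd_mul_left h1
  exact (cop (by norm_num) h31).dvd_of_dvd_mul_left h1

theorem card_x7_dvd : Nat.card ↥(centralizer ({x7} : Set ON)) ∣ 2 ^ 9 * 343 := by
  have h1 := dvd_of (cent_dvd x7) n7_5 n7_11 n7_19 n7_31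
  rw [show 2 ^ 9 * (3 ^ 4 * 7 ^ 3) = 3 ^ 4 * (2 ^ 9 * 343) by norm_num] at h1
  exact ((cop Nat.prime_three not_three_x7).pow_right 4).dvd_of_dvd_mul_left h1

theorem card_cent_of_conj {u x h : ON} (hx : orderOf x = 7) (hu : orderOf u = 7) (hh : h * u * h⁻¹ ∈ zpowers x) :
    Nat.card ↥(centralizer ({u} : Set ON)) = Nat.card ↥(centralizer ({x} : Set ON)) := by
  have hfin := finite_ON
  refine Heis.card_cent_eq (g := h) ?_
  apply Subgroup.eq_of_le_of_card_ge ((zpowers_le).2 hh)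
  rw [Nat.card_zpowers, Nat.card_zpowers, order_conj, hx, hu]

/-- `u` and a conjugate `z` of `x7` -/
theorem not_three_conj {g : ON} : ¬ 3 ∣ Nat.card ↥(centralizer ({g * x7 * g⁻¹} : Set ON)) := by
  rw [card_cent_of_conj (u := g * x7 * g⁻¹) (x := x7) (h := g⁻¹) order_x7 ((order_conj g x7).trans order_x7)]
  · exact not_three_x7
  · have e : g⁻¹ * (g * x7 * g⁻¹) * g⁻¹⁻¹ = x7 := by group
    rw [e]
    exact mem_zpowers x7

theorem seven {u : ON} (hu : orderOf u = 7) : Nat.card ↥(centralizer ({u} : Set ON)) ∣ 2 ^ 9 * 343 ∨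
    Nat.card ↥(centralizer ({u} : Set ON)) ∣ 147 := by
  have h7 : Fact (Nat.Prime 7) := ⟨by norm_num⟩
  have h3F : Fact (Nat.Prime 3) := ⟨Nat.prime_three⟩
  have hfin := finite_ON
  have conj_case : ∀ {h : ON}, h * u * h⁻¹ ∈ zpowers x7 → Nat.card ↥(centralizer ({u} : Set ON)) ∣ 2 ^ 9 * 343 := by
    intro h hh
    rw [card_cent_of_conj order_x7 hu hh]
    exact card_x7_dvd
  by_cases h2 : 2 ∣ Nat.card ↥(centralizer ({u} : Set ON))
  · obtain ⟨i, hi, hiu⟩ := exists_comm Nat.prime_two h2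
    obtain ⟨h, h1, -⟩ := into hu hi hiu.symm
    exact Or.inl (conj_case h1)
  by_cases hcj : ∃ h : ON, h * u * h⁻¹ ∈ zpowers x7
  · obtain ⟨h, hh⟩ := hcj
    exact Or.inl (conj_case hh)
  right
  have hcj' : ∀ g : ON, u ∉ zpowers (g * x7 * g⁻¹) := by
    intro g hg
    apply hcj
    refine ⟨g⁻¹, ?_⟩
    obtain ⟨n, hn⟩ := mem_zpowers_iff.1 hg
    rw [← hn, ← conj_zpow]
    have e : g⁻¹ * (g * x7 * g⁻¹) * g⁻¹⁻¹ = x7 := by group
    rw [e]
    exact zpow_mem (mem_zpowers x7) n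
  -- the order of `D = C(u)`
  obtain ⟨D, hD⟩ : ∃ D : Subgroup ON, D = centralizer ({u} : Set ON) := ⟨_, rfl⟩
  have h5 : ¬ 5 ∣ Nat.card D := by rw [hD]; exact no_five hu (by norm_num)
  have h11 : ¬ 11 ∣ Nat.card D := by rw [hD]; exact no_eleven hu (by norm_num)
  have h19 : ¬ 19 ∣ Nat.card D := by rw [hD]; exact no_19 hu (by norm_num)
  have h31 : ¬ 31 ∣ Nat.card D := by rw [hD]; exact no_31 hu (by norm_num)
  have hDm : ∀ x, x ∈ D ↔ x * u = u * x := fun x => by rw [hD]; exact mem_cent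
  rw [← hD] at h2 ⊢
  have huD : u ∈ D := (hDm u).2 rfl
  -- a conjugate of `x7` in `D`
  have pair : ∀ (g : ON), u * (g * x7 * g⁻¹) = (g * x7 * g⁻¹) * u →
      Nat.card ↥(zpowers (g * x7 * g⁻¹) ⊔ zpowers u) = 49 := by
    intro g hg
    have := card_sup_two (p := 7) ((order_conj g x7).trans order_x7) hu hg.symm (hcj' g)
    rw [this]
  obtain ⟨g, hg⟩ := exists_conj_comm (V := zpowers u) (IsPGroup.of_card (n := 1) (by rw [Nat.card_zpowers, hu, pow_one]))
  have hgu := hg u (mem_zpowers u)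
  obtain ⟨z, hz⟩ : ∃ z, z = g * x7 * g⁻¹ := ⟨_, rfl⟩
  have hzo : orderOf z = 7 := by rw [hz, order_conj, order_x7]
  have hz3 : ¬ 3 ∣ Nat.card ↥(centralizer ({z} : Set ON)) := by rw [hz]; exact not_three_conj
  have huz : u ∉ zpowers z := by rw [hz]; exact hcj' g
  have hp := pair g hgu
  rw [← hz] at hgu hp
  have hzD : z ∈ D := (hDm z).2 hgu.symm
  have h49 : 49 ∣ Nat.card D := by
    rw [← hp]
    exact card_dvd_of_le (sup_le ((zpowers_le).2 hzD) ((zpowers_le).2 huD))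
  have h343 : ¬ 343 ∣ Nat.card D := by
    intro h
    obtain ⟨P, hP, hPD⟩ := exists_343 h
    obtain ⟨g', hg'⟩ := exists_conj_comm (V := P) (IsPGroup.of_card (n := 3) (by rw [hP]; norm_num))
    -- `u ∈ P`
    have huP : ∀ t ∈ P, t * u = u * t := fun t ht => (hDm t).1 (hPD ht)
    obtain ⟨E, hE⟩ : ∃ E : Subgroup ON, E = P ⊔ zpowers u := ⟨_, rfl⟩
    have huPm : u ∈ P := by
      have hEp : IsPGroup 7 ↥E := by
        rw [hE]
        refine IsPGroup.to_sup_of_normal_right' (IsPGroup.of_card (n := 3) (by rw [hP]; norm_num))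
          (IsPGroup.of_card (n := 1) (by rw [Nat.card_zpowers, hu, pow_one])) ?_
        intro b hb
        apply mem_normalizer_of_conj
        rw [huP b hb, mul_inv_cancel_right]
        exact mem_zpowers u
      obtain ⟨R, hR⟩ := hEp.exists_le_sylow
      have h1 : P = E := by
        refine eq_of_le_of_card_ge (by rw [hE]; exact le_sup_left) ?_
        rw [hP, ← card_sylow_seven R]
        exact Nat.le_of_dvd Nat.card_pos (card_dvd_of_le hR)
      rw [h1, hE]
      exact (le_sup_right : zpowers u ≤ _) (mem_zpowers u)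
    have hp' := pair g' (hg' u huPm)
    have hn : ¬ P ≤ zpowers (g' * x7 * g'⁻¹) ⊔ zpowers u := by
      intro hle
      have := Nat.le_of_dvd Nat.card_pos (card_dvd_of_le hle)
      rw [hP, hp'] at this
      omega
    obtain ⟨t, ht, htE⟩ := Set.not_subset.1 hn
    refine false_of_comm hp' (t := t) ((IsPGroup.of_card (p := 7) (n := 3) (by rw [hP]; norm_num)).to_le
      ((zpowers_le).2 ht)) htE fun b hb => ?_
    have h1 : zpowers (g' * x7 * g'⁻¹) ⊔ zpowers u ≤ centralizer ({t} : Set ON) := by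
      refine sup_le ((zpowers_le).2 ?_) ((zpowers_le).2 ?_)
      · exact mem_cent.2 (hg' t ht).symm
      · exact mem_cent.2 (huP t ht).symm
    exact mem_cent.1 (h1 hb)
  obtain ⟨k, hk, hDc⟩ : ∃ k ≤ 4, Nat.card D = 3 ^ k * 49 := by
    have h0 : Nat.card D ∣ 460815505920 := by
      have := card_subgroup_dvd_card D
      rwa [card_ON] at this
    have h1 := ((cop Nat.prime_two h2).pow_right 9).dvd_of_dvd_mul_left (dvd_of h0 h5 h11 h19 h31)
    obtain ⟨a, b, ha, hb, hab⟩ := (Nat.dvd_mul).1 h1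
    obtain ⟨k, hk, rfl⟩ := (Nat.dvd_prime_pow Nat.prime_three).1 ha
    obtain ⟨j, hj, rfl⟩ := (Nat.dvd_prime_pow (by norm_num : Nat.Prime 7)).1 hb
    refine ⟨k, hk, ?_⟩
    rw [← hab] at h49 h343 ⊢
    have hc : Nat.Coprime (7 ^ 2) (3 ^ k) := Nat.Coprime.pow _ _ (by norm_num)
    have hj2 : 2 ≤ j := by
      have h4 : 7 ^ 2 ∣ 7 ^ j := hc.dvd_of_dvd_mul_left (by simpa using h49)
      exact (Nat.pow_dvd_pow_iff_le_right (by norm_num)).1 h4
    have hj3 : j < 3 := by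
      by_contra hj3
      apply h343
      have : j = 3 := by omega
      rw [this]
      exact ⟨3 ^ k, by ring⟩
    have : j = 2 := by omega
    rw [this]
    norm_num
  -- the quotient by `⟨u⟩`
  obtain ⟨u', hu'⟩ : ∃ u' : D, (u' : ON) = u := ⟨⟨u, huD⟩, rfl⟩
  obtain ⟨z', hz'⟩ : ∃ z' : D, (z' : ON) = z := ⟨⟨z, hzD⟩, rfl⟩
  have hu'o : orderOf u' = 7 := by rw [← orderOf_coe, hu', hu]
  have hcen : ∀ d : D, d * u' = u' * d := fun d => Subtype.ext (by rw [coe_mul, coe_mul, hu']; exact (hDm d).1 d.2)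
  have hN : (zpowers u').Normal := by
    refine ⟨?_⟩
    rintro _ ⟨i, rfl⟩ d
    show d * u' ^ i * d⁻¹ ∈ zpowers u'
    rw [((show Commute d u' from hcen d).zpow_right i).eq, mul_inv_cancel_right]
    exact zpow_mem (mem_zpowers u') i
  have hQc : Nat.card (D ⧸ zpowers u') = 3 ^ k * 7 := by
    have h1 := card_eq_card_quotient_mul_card_subgroup (zpowers u')
    rw [Nat.card_zpowers, hu'o, hDc] at h1
    omega
  let q : D →* D ⧸ zpowers u' := QuotientGroup.mk' _
  have hq1 : ∀ d : D, q d = 1 ↔ d ∈ zpowers u' := fun d => QuotientGroup.eq_one_iff d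
  have hz1 : q z' ≠ 1 := by
    intro h
    rw [hq1] at h
    obtain ⟨n, hn⟩ := mem_zpowers_iff.1 h
    have h1 : z ∈ zpowers u := by
      refine mem_zpowers_iff.2 ⟨n, ?_⟩
      rw [← hz', ← hn, ← hu', coe_zpow]
    have hz0 : z ≠ 1 := by
      intro h
      rw [h, orderOf_one] at hzo
      omega
    exact huz (mem_zpowers_of_ne hu h1 hz0)
  have hzq : orderOf (q z') = 7 := by
    refine orderOf_eq_prime ?_ hz1
    rw [← map_pow]
    have : z' ^ 7 = 1 := Subtype.ext (by rw [coe_pow, hz', ← hzo, pow_orderOf_eq_one, coe_one])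
    rw [this, map_one]
  have hno3 : ¬ 3 ∣ Nat.card ↥(centralizer ({q z'} : Set (D ⧸ zpowers u'))) := by
    intro h
    obtain ⟨e, he⟩ := exists_prime_orderOf_dvd_card' (G := ↥(centralizer ({q z'} : Set (D ⧸ zpowers u')))) 3 h
    obtain ⟨d, hd⟩ := QuotientGroup.mk'_surjective (zpowers u') (e : D ⧸ zpowers u')
    have hd' : q d = e := hd
    have heo : orderOf (e : D ⧸ zpowers u') = 3 := by rw [orderOf_coe, he]
    have hec : (e : D ⧸ zpowers u') * q z' = q z' * e := mem_cent.1 e.2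
    obtain ⟨c, hc⟩ : ∃ c, c = d ^ 7 := ⟨_, rfl⟩
    have hqc : q c = e := by
      rw [hc, map_pow, hd']
      have : (e : D ⧸ zpowers u') ^ 7 = (e : D ⧸ zpowers u') ^ (3 * 2 + 1) := by norm_num
      rw [this, pow_succ, pow_mul, ← heo, pow_orderOf_eq_one, one_pow, one_mul]
    have hc3 : c ^ 3 = 1 := by
      have h1 : d ^ 3 ∈ zpowers u' := by
        rw [← hq1, map_pow, hd', ← heo, pow_orderOf_eq_one]
      obtain ⟨n, hn⟩ := mem_zpowers_iff.1 h1
      rw [hc, ← pow_mul, mul_comm, pow_mul, ← hn, ← zpow_natCast, ← zpow_mul, mul_comm, zpow_mul, zpow_natCast,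
        ← hu'o, pow_orderOf_eq_one, one_zpow]
    have hc1 : c ≠ 1 := by
      intro h
      rw [h, map_one] at hqc
      rw [← hqc, orderOf_one] at heo
      omega
    -- `c` commutes with `z`
    have h1 : c * z' * c⁻¹ * z'⁻¹ ∈ zpowers u' := by
      rw [← hq1, map_mul, map_mul, map_mul, map_inv, map_inv, hqc, hec]
      group
    obtain ⟨n, hn⟩ := mem_zpowers_iff.1 h1
    have h2 : c * z' * c⁻¹ = u' ^ n * z' := by rw [hn]; group
    have hcu : c * u' ^ n * c⁻¹ = u' ^ n := by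
      rw [((show Commute c u' from hcen c).zpow_right n).eq, mul_inv_cancel_right]
    have h3 : c ^ 3 * z' * (c ^ 3)⁻¹ = (u' ^ n) ^ 3 * z' := by
      have e1 : c ^ 3 * z' * (c ^ 3)⁻¹ = c * (c * (c * z' * c⁻¹) * c⁻¹) * c⁻¹ := by
        rw [show c ^ 3 = c * c * c by rw [pow_succ, pow_two]]
        group
      have e2 : c * (u' ^ n * z') * c⁻¹ = (c * u' ^ n * c⁻¹) * (c * z' * c⁻¹) := by group
      have e3 : c * (u' ^ n * (u' ^ n * z')) * c⁻¹ = (c * u' ^ n * c⁻¹) * ((c * u' ^ n * c⁻¹) * (c * z' * c⁻¹)) := by group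
      rw [e1, h2, e2, hcu, h2, e3, hcu, h2]
      rw [pow_succ, pow_two]
      group
    rw [hc3, one_mul, inv_one, mul_one] at h3
    have h4 : (u' ^ n) ^ 3 = 1 := (mul_eq_right.1 h3.symm)
    have h5' : (u' ^ n) ^ 7 = 1 := by
      rw [← zpow_natCast, ← zpow_mul, mul_comm, zpow_mul, zpow_natCast, ← hu'o, pow_orderOf_eq_one, one_zpow]
    have h6 : u' ^ n = 1 := by
      have h7' : orderOf (u' ^ n) ∣ 1 := by
        have := Nat.dvd_gcd (orderOf_dvd_of_pow_eq_one h4) (orderOf_dvd_of_pow_eq_one h5')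
        simpa using this
      exact orderOf_eq_one_iff.1 (Nat.dvd_one.1 h7')
    rw [h6, one_mul, mul_inv_eq_iff_eq_mul] at h2
    have h8 : (c : ON) * z = z * c := by
      have := congrArg Subtype.val h2
      rw [coe_mul, coe_mul, hz'] at this
      exact this
    have h9 : orderOf (c : ON) = 3 := by
      rw [orderOf_coe]
      exact orderOf_eq_prime hc3 hc1
    exact hz3 (h9 ▸ dvd_cent h8)
  obtain ⟨n, hn, hcard⟩ := CpAutON.Gen.card_eq (G := D ⧸ zpowers u') (p := 7) (by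
    rw [hQc]
    intro h
    have h1 : 7 * 7 ∣ 3 ^ k * 7 := by simpa [pow_two] using h
    have h2 := Nat.Prime.dvd_of_dvd_pow (by norm_num : Nat.Prime 7) (Nat.dvd_of_mul_dvd_mul_right (by norm_num) h1)
    revert h2
    norm_num) hzq
  have hr := range_dvd hzq
  obtain ⟨m, hm⟩ : ∃ m, m = Nat.card ↥((zpowers (q z')).normalizerMonoidHom).range := ⟨_, rfl⟩
  rw [← hm] at hr hcard
  have hC7 : Nat.card ↥(centralizer ({q z'} : Set (D ⧸ zpowers u'))) = 7 := by
    have h1 := card_subgroup_dvd_card (centralizer ({q z'} : Set (D ⧸ zpowers u')))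
    rw [hQc] at h1
    have h2 := ((cop Nat.prime_three hno3).pow_right k).dvd_of_dvd_mul_left h1
    rcases (Nat.dvd_prime (by norm_num : Nat.Prime 7)).1 h2 with h3 | h3
    · exfalso
      have h4 := dvd_cent (x := q z') (y := q z') rfl
      rw [hzq, h3] at h4
      omega
    · exact h3
  rw [hQc, hC7] at hcard
  rw [hDc]
  have hm6 : m ≤ 6 := Nat.le_of_dvd (by norm_num) hr
  interval_cases k <;> first | norm_num; done | (exfalso; interval_cases m <;> omega)

end Cfsg.Agent.H19.Odd.ONEl
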