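import Cfsg.Agent.H19.Odd.ONEl
import Cfsg.Agent.H516.OddFrame

/-!
# S4095, S4096, S4094: the row `O'N`, `p` odd (helper19, task 567)
-/

set_option autoImplicit false
set_option linter.unusedSectionVars false
set_option maxRecDepth 100000

namespace Cfsg.Agent.H19.Odd.ON

open Subgroup Cfsg Cfsg.Agent.H516
open Cfsg.Agent.KFacts.ON.Cent (finite_ON card_K0)
open Cfsg.Agent.H474.ONC Cfsg.Agent.H19.Odd.ONSeven Cfsg.Agent.H19.Odd.ONEl

universe u

theorem prime_cases {q : ℕ} (hq : q.Prime) (h : q ∣ 460815505920) :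
    q = 2 ∨ q = 3 ∨ q = 5 ∨ q = 7 ∨ q = 11 ∨ q = 19 ∨ q = 31 := by
  have e : (460815505920 : ℕ) = 2 ^ 9 * (3 ^ 4 * (5 * (7 ^ 3 * (11 * (19 * 31))))) := by norm_num
  rw [e] at h
  have key : ∀ {r n : ℕ}, r.Prime → q ∣ r ^ n → q = r := fun hr h =>
    (Nat.prime_dvd_prime_iff_eq hq hr).1 (hq.dvd_of_dvd_pow h)
  have key' : ∀ {r : ℕ}, r.Prime → q ∣ r → q = r := fun hr h => (Nat.prime_dvd_prime_iff_eq hq hr).1 h
  rcases (Nat.Prime.dvd_mul hq).1 h with h | h
  · exact Or.inl (key Nat.prime_two h)
  rcases (Nat.Prime.dvd_mul hq).1 h with h | h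
  · exact Or.inr (Or.inl (key Nat.prime_three h))
  rcases (Nat.Prime.dvd_mul hq).1 h with h | h
  · exact Or.inr (Or.inr (Or.inl (key' (by norm_num) h)))
  rcases (Nat.Prime.dvd_mul hq).1 h with h | h
  · exact Or.inr (Or.inr (Or.inr (Or.inl (key (by norm_num) h))))
  rcases (Nat.Prime.dvd_mul hq).1 h with h | h
  · exact Or.inr (Or.inr (Or.inr (Or.inr (Or.inl (key' (by norm_num) h)))))
  rcases (Nat.Prime.dvd_mul hq).1 h with h | h
  · exact Or.inr (Or.inr (Or.inr (Or.inr (Or.inr (Or.inl (key' (by norm_num) h))))))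
  · exact Or.inr (Or.inr (Or.inr (Or.inr (Or.inr (Or.inr (key' (by norm_num) h))))))

/-- **The subgroups of odd order of the centralizers of the elements of odd prime order.** -/
theorem card_lt {F : Subgroup Spor.ON} {b : Spor.ON} (hb : (orderOf b).Prime) (hb2 : orderOf b ≠ 2)
    (hF : F ≤ centralizer ({b} : Set Spor.ON)) (hodd : Odd (Nat.card F)) : Nat.card F < 512 := by
  have hfin := finite_ON
  have h3F : Fact (Nat.Prime 3) := ⟨Nat.prime_three⟩
  have h5F : Fact (Nat.Prime 5) := ⟨by norm_num⟩
  have h7F : Fact (Nat.Prime 7) := ⟨by norm_num⟩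
  have hdvd := card_dvd_of_le hF
  have hle : ∀ {n : ℕ}, Nat.card ↥(centralizer ({b} : Set Spor.ON)) = n → n < 512 → Nat.card F < 512 := by
    intro n hn h
    have := Nat.le_of_dvd Nat.card_pos hdvd
    omega
  have hFG : Nat.card F ∣ 460815505920 := by
    have := card_subgroup_dvd_card F
    rwa [card_ON] at this
  rcases prime_cases hb (by rw [← card_ON]; exact orderOf_dvd_natCard b) with h | h | h | h | h | h | h
  · exact absurd h hb2
  · -- order 3
    by_contra h512
    push Not at h512
    have h2 : ¬ 2 ∣ Nat.card F := fun h => (Nat.not_even_iff_odd.2 hodd) (even_iff_two_dvd.2 h)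
    have h11 : ¬ 11 ∣ Nat.card F := fun h' => no_eleven h (by norm_num) (h'.trans hdvd)
    have h19 : ¬ 19 ∣ Nat.card F := fun h' => no_19 h (by norm_num) (h'.trans hdvd)
    have h31 : ¬ 31 ∣ Nat.card F := fun h' => no_31 h (by norm_num) (h'.trans hdvd)
    have h49 : ¬ 49 ∣ Nat.card F := by
      intro h49
      obtain ⟨B, hB⟩ := Sylow.exists_subgroup_card_pow_prime (G := ↥F) 7 (n := 2) (by norm_num; exact h49)
      obtain ⟨g, hg⟩ := exists_conj (B := B.map F.subtype) (by
        rw [card_map_of_injective (subtype_injective _), hB]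
        norm_num)
      obtain ⟨c, -, hc⟩ := hg
      have h1 : (c : Spor.ON) * b = b * c := mem_cent.1 (hF c.2)
      have h2 : (c : Spor.ON) = g * x7 * g⁻¹ := hc
      rw [h2] at h1
      exact not_three_conj (h ▸ dvd_cent h1.symm)
    -- the shape
    obtain ⟨i, k, j, hi, hk, hj, hs⟩ : ∃ i k j : ℕ, i ≤ 4 ∧ k ≤ 1 ∧ j ≤ 1 ∧ Nat.card F = 3 ^ i * (5 ^ k * 7 ^ j) := by
      have h0 : Nat.card F ∣ 2 ^ 9 * (11 * (19 * (31 * (3 ^ 4 * (5 ^ 1 * 7 ^ 3))))) := hFG.trans (by norm_num)
      have h1 := ((cop Nat.prime_two h2).pow_right 9).dvd_of_dvd_mul_left h0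
      have h1 := (cop (by norm_num) h11).dvd_of_dvd_mul_left h1
      have h1 := (cop (by norm_num) h19).dvd_of_dvd_mul_left h1
      have h1 := (cop (by norm_num) h31).dvd_of_dvd_mul_left h1
      obtain ⟨a, b, ha, hb, hab⟩ := (Nat.dvd_mul).1 h1
      obtain ⟨c, d, hc, hd, hcd⟩ := (Nat.dvd_mul).1 hb
      obtain ⟨i, hi, rfl⟩ := (Nat.dvd_prime_pow Nat.prime_three).1 ha
      obtain ⟨k, hk, rfl⟩ := (Nat.dvd_prime_pow (by norm_num : Nat.Prime 5)).1 hc
      obtain ⟨j, hj, rfl⟩ := (Nat.dvd_prime_pow (by norm_num : Nat.Prime 7)).1 hd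
      refine ⟨i, k, j, hi, hk, ?_, by rw [hcd, hab]⟩
      by_contra hj1
      apply h49
      rw [← hab, ← hcd]
      obtain ⟨l, rfl⟩ := Nat.exists_eq_add_of_le (show 2 ≤ j by omega)
      exact ⟨3 ^ i * (5 ^ k * 7 ^ l), by rw [pow_add]; ring⟩
    have hj1 : j = 1 := by
      by_contra hj1
      have hj0 : j = 0 := by omega
      rw [hs, hj0] at h512
      interval_cases i <;> interval_cases k <;> omega
    have hi3 : 3 ≤ i := by
      by_contra hi3
      rw [hs, hj1] at h512
      have : i ≤ 2 := by omega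
      interval_cases i <;> interval_cases k <;> omega
    rw [hj1] at hs
    -- an element of order 7
    have h7 : 7 ∣ Nat.card F := by
      rw [hs]
      exact ⟨3 ^ i * 5 ^ k, by ring⟩
    obtain ⟨u, hu⟩ := exists_prime_orderOf_dvd_card' (G := F) 7 h7
    have huo : orderOf (u : Spor.ON) = 7 := by rw [orderOf_coe, hu]
    -- its centralizer in `F`
    have hCu : Nat.card ↥(centralizer ({u} : Set F)) ∣ Nat.card ↥(centralizer ({(u : Spor.ON)} : Set Spor.ON)) := by
      have h1 : (centralizer ({u} : Set F)).map F.subtype ≤ centralizer ({(u : Spor.ON)} : Set Spor.ON) := by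
        rintro _ ⟨c, hc, rfl⟩
        exact mem_cent.2 (congrArg Subtype.val (mem_cent.1 hc))
      have h2 := card_dvd_of_le h1
      rwa [card_map_of_injective (subtype_injective _)] at h2
    have hCF : Nat.card ↥(centralizer ({u} : Set F)) ∣ Nat.card F := card_subgroup_dvd_card _
    have hC7 : 7 ∣ Nat.card ↥(centralizer ({u} : Set F)) := by
      have := dvd_cent (x := u) (y := u) rfl
      rwa [hu] at this
    have hC : Nat.card ↥(centralizer ({u} : Set F)) = 7 ∨ Nat.card ↥(centralizer ({u} : Set F)) = 21 := by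
      generalize Nat.card ↥(centralizer ({u} : Set F)) = c at hCu hCF hC7
      have c2 : ¬ 2 ∣ c := fun h => h2 (h.trans hCF)
      have c49 : ¬ 49 ∣ c := fun h => h49 (h.trans hCF)
      obtain ⟨d, rfl⟩ := hC7
      have hd7 : ¬ 7 ∣ d := by
        rintro ⟨e, rfl⟩
        exact c49 ⟨e, by ring⟩
      have hd : d ∣ 3 := by
        rcases seven huo with h1 | h1
        · have h3 : 7 * d ∣ 2 ^ 9 * 343 := hCu.trans h1
          have h4 := ((cop Nat.prime_two c2).pow_right 9).dvd_of_dvd_mul_left h3
          have h5 : d ∣ 7 ^ 2 * 1 := Nat.dvd_of_mul_dvd_mul_left (by norm_num : 0 < 7) (by simpa using h4)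
          have h6 := ((cop (by norm_num) hd7).pow_right 2).dvd_of_dvd_mul_left h5
          exact h6.trans (one_dvd _)
        · have h3 : 7 * d ∣ 7 * (7 * 3) := hCu.trans h1
          have h5 : d ∣ 7 * 3 := Nat.dvd_of_mul_dvd_mul_left (by norm_num : 0 < 7) h3
          exact (cop (by norm_num) hd7).dvd_of_dvd_mul_left h5
      rcases (Nat.dvd_prime Nat.prime_three).1 hd with rfl | rfl
      · exact Or.inl rfl
      · exact Or.inr rfl
    obtain ⟨n, hn, hcard⟩ := CpAutON.Gen.card_eq (G := F) (p := 7) (by simpa using h49) hu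
    have hr := range_dvd hu
    obtain ⟨m, hm⟩ : ∃ m, m = Nat.card ↥((zpowers u).normalizerMonoidHom).range := ⟨_, rfl⟩
    rw [← hm] at hr hcard
    have hm6 : m ≤ 6 := Nat.le_of_dvd (by norm_num) hr
    have hm2 : ¬ 2 ∣ m := by
      intro h
      apply h2
      rw [hcard]
      exact (h.mul_left _).mul_left _
    -- the case `5 ∣ |F|`
    have hk0 : k = 1 → i = 3 → False := by
      intro hk1 hi'
      rw [hk1, hi'] at hs
      obtain ⟨S⟩ : Nonempty (Sylow 3 ↥F) := inferInstance
      have hSc : Nat.card S = 27 := by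
        have h1 := S.card_eq_multiplicity
        rw [hs] at h1
        rw [h1, show 3 ^ 3 * (5 ^ 1 * 7 ^ 1) = 3 ^ 3 * 35 by norm_num,
          Nat.factorization_mul (by positivity) (by norm_num), Nat.factorization_pow, Finsupp.add_apply,
          Finsupp.smul_apply, Nat.Prime.factorization_self Nat.prime_three,
          Nat.factorization_eq_zero_of_not_dvd (by norm_num : ¬ 3 ∣ 35)]
        norm_num
      have hnd : Nat.card (Sylow 3 ↥F) ∣ 35 := by
        have h1 := S.card_dvd_index
        have h3 := (S : Subgroup ↥F).card_mul_index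
        rw [hSc, hs] at h3
        have h4 : (S : Subgroup ↥F).index = 35 := by omega
        rwa [h4] at h1
      have hmod : Nat.card (Sylow 3 ↥F) % 3 = 1 := by
        have := card_sylow_modEq_one 3 ↥F
        rw [Nat.ModEq, Nat.mod_eq_of_lt (by norm_num : 1 < 3)] at this
        exact this
      have hcn : Nat.card (Sylow 3 ↥F) = (normalizer ((S : Subgroup ↥F) : Set ↥F)).index := S.card_eq_index_normalizer
      have h35 : Nat.card (Sylow 3 ↥F) ≤ 35 := Nat.le_of_dvd (by norm_num) hnd
      have hN5 : 5 ∣ Nat.card ↥(normalizer ((S : Subgroup ↥F) : Set ↥F)) := by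
        have h3 := (normalizer ((S : Subgroup ↥F) : Set ↥F)).card_mul_index
        rw [← hcn, hs] at h3
        generalize Nat.card (Sylow 3 ↥F) = t at hnd hmod h35 h3
        generalize Nat.card ↥(normalizer ((S : Subgroup ↥F) : Set ↥F)) = r at h3 ⊢
        have ht : t = 1 ∨ t = 7 := by
          clear hcn hcard hs
          interval_cases t <;> first | (exfalso; revert hnd; norm_num; done) | (exfalso; omega) | omega
        rcases ht with rfl | rfl <;> omega
      obtain ⟨x, hx⟩ := exists_prime_orderOf_dvd_card' (G := ↥(normalizer ((S : Subgroup ↥F) : Set ↥F))) 5 hN5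
      have hxo : orderOf (x : F) = 5 := by rw [orderOf_coe, hx]
      have h6 := BpSpor.TwoPart.card_modEq hxo x.2
      have h6' : Nat.card (S : Subgroup ↥F) = 27 := hSc
      rw [h6'] at h6
      have h7' : Nat.card ↥((S : Subgroup ↥F) ⊓ centralizer ({(x : F)} : Set F)) ∣ 3 ^ 3 := by
        have := card_dvd_of_le (inf_le_left : (S : Subgroup ↥F) ⊓ centralizer ({(x : F)} : Set F) ≤ S)
        rw [h6'] at this
        exact this
      obtain ⟨c, hc, hcc⟩ := (Nat.dvd_prime_pow Nat.prime_three).1 h7'
      have hc3 : c = 3 := by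
        rw [hcc] at h6
        interval_cases c <;> first | rfl | (exfalso; revert h6; decide)
      have h8 : 27 ∣ Nat.card ↥(centralizer ({((x : F) : Spor.ON)} : Set Spor.ON)) := by
        have h9 : ((S : Subgroup ↥F) ⊓ centralizer ({(x : F)} : Set F)).map F.subtype ≤
            centralizer ({((x : F) : Spor.ON)} : Set Spor.ON) := by
          rintro _ ⟨c, hc, rfl⟩
          exact mem_cent.2 (congrArg Subtype.val (mem_cent.1 hc.2))
        have h10 := card_dvd_of_le h9
        rw [card_map_of_injective (subtype_injective _), hcc, hc3] at h10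
        simpa using h10
      rw [card_cent_five (by rw [orderOf_coe, hxo])] at h8
      revert h8
      norm_num
    rw [hs] at hcard
    have hm13 : m = 1 ∨ m = 3 := by
      clear hcard
      interval_cases m <;> first | (exfalso; revert hr; norm_num; done) | (exfalso; omega) | omega
    have hi34 : i = 3 ∨ i = 4 := by omega
    have hk01 : k = 0 ∨ k = 1 := by omega
    have hs' := hs
    rw [hs] at h512
    rcases hi34 with rfl | rfl <;> rcases hk01 with rfl | rfl
    · omega
    · exact hk0 rfl rfl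
    · rcases hC with hC | hC <;> rcases hm13 with hm1 | hm1 <;> rw [hC, hm1] at hcard <;> omega
    · rcases hC with hC | hC <;> rcases hm13 with hm1 | hm1 <;> rw [hC, hm1] at hcard <;> omega
  · exact hle (card_cent_five h) (by norm_num)
  · -- order 7
    rcases seven h with h1 | h1
    · have h3 := (Nat.Coprime.pow_right 9 (Nat.coprime_two_right.2 hodd)).dvd_of_dvd_mul_left (hdvd.trans h1)
      have := Nat.le_of_dvd (by norm_num) h3
      omega
    · have := Nat.le_of_dvd (by norm_num) (hdvd.trans h1)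
      omega
  · exact hle (card_cent_eleven h) (by norm_num)
  · exact hle (card_nineteen h) (by norm_num)
  · exact hle (card_31 h) (by norm_num)

/-- **Row `O'N`** -/
theorem row {L : Type u} [Group L] [Finite L] (h : Spor.IsoON L) {p : ℕ} {a : MulAut L} {b : L}
    (S : Sit p a b) : False := by
  obtain ⟨e⟩ := h
  have hL : Nat.card L = 460815505920 := (Nat.card_congr e.toEquiv).trans card_ON
  have h512 : 512 ≤ Nat.card (fixedSubgroup a) := S.two_pow_le (k := 9) (by rw [hL]; norm_num)
  have hm := card_map_of_injective (K := fixedSubgroup a) (f := e.toMonoidHom) e.injective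
  have ho : orderOf (e b) = orderOf b := MulEquiv.orderOf_eq e b
  have h1 := card_lt (F := (fixedSubgroup a).map e.toMonoidHom) (b := e b) (by rw [ho]; exact S.bprime)
    (by rw [ho]; exact S.b_ne_two) (by
      rintro _ ⟨x, hx, rfl⟩
      have h2 := mem_centralizer_singleton_iff.1 (S.le hx)
      rw [mem_centralizer_singleton_iff]
      show e x * e b = e b * e x
      rw [← map_mul, h2, map_mul]) (by rw [hm]; exact S.odd)
  rw [hm] at h1
  omega

end Cfsg.Agent.H19.Odd.ON
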