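import Cfsg.Agent.H19.Odd.Srg
import Cfsg.Agent.H516.OddFrame
import Cfsg.Agent.H830.Con22
import Cfsg.Agent.H816.Quasi
import Cfsg.Agent.OddHalf.D8.Fi22.KTrans

/-!
# S4095, S4096, S4094: the rows `Fi22`, `Fi23`, `p` odd (helper19, task 560)

`Sit p a b` : `a` maps no involution to itself or to a commuting one; this is impossible for an automorphism of the graph of
the 3-transpositions (`Srg.main`).
-/

set_option autoImplicit false
set_option linter.unusedSectionVars false

namespace Cfsg.Agent.H19.Odd.Fi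

open Subgroup Cfsg Cfsg.Agent.H516 Cfsg.Agent.Fischer480.Defs

universe u

section Gen

variable {L : Type u} [Group L] [Finite L] {p : ℕ} {a : MulAut L} {b : L}

/-- No involution commutes with its image. -/
theorem not_commute (S : Sit p a b) {d : L} (hd : orderOf d = 2) : ¬ Commute (a d) d := by
  intro h
  have h1 : a d = d := by
    refine S.bad.fix_of_commute ?_ h S.prime.one_lt.ne'
    rw [hd]
    exact (Nat.coprime_primes Nat.prime_two S.prime).2 S.ne_two.symm
  have h2 : d ∈ fixedSubgroup a := h1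
  have h3 : orderOf (⟨d, h2⟩ : fixedSubgroup a) ∣ Nat.card (fixedSubgroup a) := orderOf_dvd_natCard _
  rw [Subgroup.orderOf_mk, hd] at h3
  exact (Nat.not_even_iff_odd.2 S.odd) (even_iff_two_dvd.2 h3)

open scoped Classical in
/-- **The graph argument.** -/
theorem false_of_srg (S : Sit p a b) {E : Set L} (hne : E.Nonempty) (h2 : ∀ d ∈ E, orderOf d = 2)
    (ha : ∀ d ∈ E, a d ∈ E) {k l m : ℕ} (hk : ∀ x ∈ E, (Loc E x).ncard = k)
    (hl : ∀ x ∈ E, ∀ y ∈ Loc E x, (Loc (Loc E x) y).ncard = l)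
    (hm : ∀ x ∈ E, ∀ y ∈ E, ¬ Commute x y → (Com E x y).ncard = m)
    {r s : ℤ} (h3 : r + s = l - m) (h4 : r * s = m - k) (hrs : r ≠ s) (hdiv : ¬ r - s ∣ (k : ℤ) - s) : False := by
  have hfin : Fintype ↥E := Fintype.ofFinite _
  obtain ⟨d₀, hd₀⟩ := hne
  have hne' : Nonempty ↥E := ⟨⟨d₀, hd₀⟩⟩
  let f : ↥E → ↥E := fun d => ⟨a d, ha _ d.2⟩
  have hf : Function.Injective f := fun x y h => Subtype.ext (a.injective (congrArg Subtype.val h))
  let σ : Equiv.Perm ↥E := Equiv.ofBijective f (Finite.injective_iff_bijective.1 hf)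
  have hσ : ∀ d : ↥E, ((σ d : ↥E) : L) = a d := fun d => rfl
  let R : ↥E → ↥E → Prop := fun a b => (b : L) ≠ a ∧ Commute (a : L) b
  have cardset : ∀ (p : ↥E → Prop) [DecidablePred p] (S : Set L), (∀ z : L, z ∈ S ↔ ∃ h : z ∈ E, p ⟨z, h⟩) →
      (Finset.univ.filter fun z => p z).card = S.ncard := by
    intro p _ S hS
    rw [← Set.ncard_coe_finset]
    have : S = Subtype.val '' (((Finset.univ.filter fun z => p z) : Finset ↥E) : Set ↥E) := by
      ext z
      rw [hS]
      constructor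
      · rintro ⟨h, hp⟩
        exact ⟨⟨z, h⟩, by simpa using hp, rfl⟩
      · rintro ⟨⟨w, h⟩, hp, rfl⟩
        exact ⟨h, by simpa using hp⟩
    rw [this, Set.ncard_image_of_injective _ Subtype.val_injective]
  refine hdiv (Srg.main (V := ↥E) R (fun a b h => ⟨h.1.symm, h.2.symm⟩) (fun a h => h.1 rfl) (k := k) (l := l)
    (m := m) ?_ ?_ ?_ h3 h4 hrs σ ?_ ?_ ?_)
  · intro x
    rw [← hk x.1 x.2]
    refine cardset _ _ ?_
    intro z
    constructor
    · rintro ⟨a1, a2, a3⟩
      exact ⟨a1, a2, a3⟩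
    · rintro ⟨a1, a2, a3⟩
      exact ⟨a1, a2, a3⟩
  · rintro ⟨x, hx⟩ ⟨y, hy⟩ ⟨b1, b2⟩
    rw [← hl x hx y ⟨hy, b1, b2⟩]
    refine cardset _ _ ?_
    intro z
    constructor
    · rintro ⟨⟨a1, a2, a3⟩, a4, a5⟩
      exact ⟨a1, ⟨a2, a3⟩, Ne.symm a4, a5.symm⟩
    · rintro ⟨a1, ⟨a2, a3⟩, a4, a5⟩
      exact ⟨⟨a1, a2, a3⟩, Ne.symm a4, a5.symm⟩
  · rintro ⟨x, hx⟩ ⟨y, hy⟩ hxa hR
    have hxa' : ¬ Commute x y := by
      intro h
      apply hR
      refine ⟨?_, h⟩
      intro h'
      exact hxa (Subtype.ext h'.symm)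
    rw [← hm x hx y hy hxa']
    refine cardset _ _ ?_
    intro z
    constructor
    · rintro ⟨a1, a2, a3⟩
      refine ⟨a1, ⟨?_, a2⟩, ?_, a3.symm⟩
      · rintro rfl
        exact hxa' a3.symm
      · rintro rfl
        exact hxa' a2
    · rintro ⟨a1, ⟨a2, a3⟩, a4, a5⟩
      exact ⟨a1, a3, a5.symm⟩
  · rintro ⟨x, hx⟩ ⟨y, hy⟩
    show (a y ≠ a x ∧ Commute (a x) (a y)) ↔ (y ≠ x ∧ Commute x y)
    have e1 : (a y = a x) ↔ y = x := a.injective.eq_iff
    have e2 : Commute (a x) (a y) ↔ Commute x y := by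
      constructor
      · intro h
        have h4 := congrArg a.symm h.eq
        rw [map_mul, map_mul, MulEquiv.symm_apply_apply, MulEquiv.symm_apply_apply] at h4
        exact h4
      · intro h
        exact h.map a
    rw [Ne, e1, e2]
  · rintro ⟨x, hx⟩ h
    have h5 : a x = x := congrArg Subtype.val h
    refine not_commute S (h2 x hx) ?_
    rw [h5]
  · rintro ⟨x, hx⟩ ⟨-, b2⟩
    exact not_commute S (h2 x hx) b2.symm

end Gen

/-- **Row `Fi22`** -/
theorem fi22 {L : Type u} [Group L] [Finite L] (h : Spor.IsoFi22 L) {p : ℕ} {a : MulAut L} {b : L}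
    (S : Sit p a b) : False := by
  obtain ⟨e⟩ := h
  let E : Set L := {x | e x ∈ R01.Fi22Facts.T}
  have h6 : IsT6 E := Cfsg.Agent.Fischer480.Transport.isT6 (H816.Quasi.cIso_map e fun x => Iff.rfl) H830.Con22.isT6
  have kt := OddHalf.D8.Fi22.kTrans0
  have hne : E.Nonempty := by
    have : 0 < E.ncard := by rw [h6.1]; norm_num
    exact Set.nonempty_of_ncard_ne_zero this.ne'
  refine false_of_srg S (E := E) hne ?_ ?_ (k := 693) (l := 180) (m := 126)
    (fun x hx => (TSp.UCount.numbers_six (h6.2.1 x hx)).1)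
    (fun x hx y hy => (TSp.UCount.numbers_six (h6.2.1 x hx)).2.1 y hy) h6.2.2 (r := 63) (s := -9) (by norm_num)
    (by norm_num) (by norm_num) (by norm_num)
  · intro d hd
    have h1 := kt.sq _ hd
    have h2 := kt.ne1 _ hd
    rw [← MulEquiv.orderOf_eq e]
    exact orderOf_eq_prime (by rw [pow_two]; exact h1) h2
  · intro d hd
    have h1 := kt.aut ((e.symm.trans a).trans e) _ hd
    have h2 : ((e.symm.trans a).trans e) (e d) = e (a d) := by
      simp
    rw [h2] at h1
    exact h1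

/-- **Row `Fi23`** -/
theorem fi23 {L : Type u} [Group L] [Finite L] (h : Spor.IsoFi23 L) {p : ℕ} {a : MulAut L} {b : L}
    (S : Sit p a b) : False := by
  obtain ⟨e⟩ := h
  let E : Set L := {x | e x ∈ R08.FiTwentyThree.D}
  have h7 : IsT7 E := Cfsg.Agent.Fischer480.Transport.isT7 (H816.Quasi.cIso_map e fun x => Iff.rfl)
    (H816.Quasi.isT7_of H830.Con22.isT6)
  have hne : E.Nonempty := by
    have : 0 < E.ncard := by rw [h7.1]; norm_num
    exact Set.nonempty_of_ncard_ne_zero this.ne'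
  refine false_of_srg S (E := E) hne ?_ ?_ (k := 3510) (l := 693) (m := 351)
    (fun x hx => (h7.2.1 x hx).1)
    (fun x hx y hy => (TSp.UCount.numbers_six ((h7.2.1 x hx).2.1 y hy)).1) h7.2.2 (r := 351) (s := -9) (by norm_num)
    (by norm_num) (by norm_num) (by norm_num)
  · intro d hd
    rw [← MulEquiv.orderOf_eq e]
    have h1 : e d ∈ R08.FiTwentyThree.D := hd
    obtain ⟨g, hg⟩ := isConj_iff.1 (show IsConj Fischer.Fi23Z.z0 (e d) from h1)
    have h2 : orderOf (e d) = orderOf Fischer.Fi23Z.z0 := by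
      rw [← hg]
      exact orderOf_injective (MulAut.conj g).toMonoidHom (MulAut.conj g).injective _
    rw [h2]
    refine orderOf_eq_prime ?_ ?_
    · rw [pow_two]
      exact KFacts.FiTTh.Cent.zz
    · intro h0
      have h3 := h7.1
      have h4 : E ⊆ {1} := by
        intro x hx
        obtain ⟨g, hg⟩ := isConj_iff.1 (show IsConj Fischer.Fi23Z.z0 (e x) from hx)
        rw [h0, mul_one, mul_inv_cancel] at hg
        rw [Set.mem_singleton_iff]
        exact (MulEquiv.map_eq_one_iff e).1 hg.symm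
      have h5 := Set.ncard_le_ncard h4
      rw [h3, Set.ncard_singleton] at h5
      omega
  · intro d hd
    obtain ⟨g, hg⟩ := KFacts.FiTTh.Has.inn ((e.symm.trans a).trans e)
    have h2 : ((e.symm.trans a).trans e) (e d) = e (a d) := by
      simp
    show e (a d) ∈ R08.FiTwentyThree.D
    rw [← h2, hg, MulAut.conj_apply]
    exact R08.FiTwentyThree.conj_mem_D hd g

end Cfsg.Agent.H19.Odd.Fi
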