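import Cfsg.Agent.H19.Odd.HeCnt
import Cfsg.Agent.CpAutHe.Seven

/-!
# The centralizer of an element of order 17 of the Held group (helper19)
-/

set_option autoImplicit false

namespace Cfsg.Agent.H19.Odd.HeCnt

open Subgroup
open Cfsg.Spor Cfsg.Spor.He Cfsg.Agent.SporadicB.HePerm
open Cfsg.Agent.FixBN.HeStab Cfsg.Agent.KFacts.He.Lv Cfsg.Agent.CpAutHe.Cnt

set_option maxRecDepth 100000

/-- order 17 -/
def XD : List Gen := [.c, .d, .g, .b]

def lD : List Stp := [⟨1927, [], [1], 1⟩, ⟨1, [1927], [2, 3, 7], 17⟩, ⟨0, [1, 22, 1367, 1767, 1856], [], 1⟩,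
  ⟨32, [1471, 22, 1856], [], 1⟩, ⟨8, [743, 660, 1767, 1856, 1927], [], 1⟩]

theorem runD : run XD lD [] = true := by decide +kernel

theorem cardD : Nat.card ↥(centralizer ({wd XD} : Set Cfsg.Spor.He)) ≤ 17 := card_le runD (by decide)

theorem chkD : chkB (pw XD 17) [] = true := by decide +kernel

theorem orderD : orderOf (wd XD) = 17 := by
  have : Fact (Nat.Prime 17) := ⟨by norm_num⟩
  refine orderOf_eq_prime ?_ (CpAutHe.Seven.ne_one_of_act 1 (by decide +kernel))
  have h := eq_of_chkB chkD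
  rwa [wd_pw, wd_nil] at h

/-- **Order 17** -/
theorem seventeen {b : Cfsg.Spor.He} (hb : orderOf b = 17) :
    Nat.card ↥(centralizer ({b} : Set Cfsg.Spor.He)) ≤ 17 := by
  have h17 : Fact (Nat.Prime 17) := ⟨by norm_num⟩
  obtain ⟨g, hg⟩ := CpAutON.Gen.conj_into (p := 17) (by rw [card_he]; norm_num) hb orderD
  exact (CpAutHe.Seven.card_cent_le hb orderD hg).trans cardD

end Cfsg.Agent.H19.Odd.HeCnt
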