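import Cfsg.Agent.H19.Odd.HeEl7
import Cfsg.Agent.H516.OddFrame
import Cfsg.Agent.H19.Odd.HeCntD

/-!
# S4095, S4096, S4094: the row `He`, `p` odd (helper19, task 567)
-/

set_option autoImplicit false
set_option linter.unusedSectionVars false

namespace Cfsg.Agent.H19.Odd.He

open Subgroup Cfsg Cfsg.Agent.H516
open Cfsg.Agent.SporadicB.HePerm (wd phi)
open Cfsg.Agent.SporadicB.HePerm
open Cfsg.Agent.FixBN.HeStab Cfsg.Agent.H19.Odd.HeCnt Cfsg.Agent.H19.Odd.HeEl

universe u

/-! ### Centralizers in the presented group -/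

/-- the stabilizer of a point -/
noncomputable def St : Subgroup Cfsg.Spor.He := (fixer 0).comap phi

theorem card_St : Nat.card ↥St = 1958400 := by
  rw [← H478.SporHe.card_stab, St, ← Subgroup.card_map_of_injective phi_injective, Subgroup.map_comap_eq]

section General

variable {G : Type u} [Group G] [Finite G]

theorem card_centralizer_equiv {H : Type*} [Group H] (e : G ≃* H) (y : G) :
    Nat.card ↥(centralizer ({y} : Set G)) = Nat.card ↥(centralizer ({e y} : Set H)) := by
  have h1 : (centralizer ({y} : Set G)).map e.toMonoidHom = centralizer ({e y} : Set H) := by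
    ext c
    rw [Subgroup.mem_map, mem_centralizer_singleton_iff]
    constructor
    · rintro ⟨d, hd, rfl⟩
      rw [mem_centralizer_singleton_iff] at hd
      show e d * e y = e y * e d
      rw [← map_mul, hd, map_mul]
    · intro hc
      refine ⟨e.symm c, ?_, e.apply_symm_apply c⟩
      rw [mem_centralizer_singleton_iff]
      apply e.injective
      rw [map_mul, map_mul, e.apply_symm_apply, hc]
  rw [← h1, Subgroup.card_map_of_injective e.injective]

/-- an element of order `r` of a subgroup of order divisible by `r` -/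
theorem exists_order {r : ℕ} (hr : r.Prime) {H : Subgroup G} (h : r ∣ Nat.card H) : ∃ y ∈ H, orderOf y = r := by
  have hf : Fact r.Prime := ⟨hr⟩
  obtain ⟨y, hy⟩ := exists_prime_orderOf_dvd_card' (G := H) r h
  exact ⟨y, y.2, by rw [Subgroup.orderOf_coe, hy]⟩

end General

theorem prime_cases {q : ℕ} (hq : q.Prime) (h : q ∣ 4030387200) : q = 2 ∨ q = 3 ∨ q = 5 ∨ q = 7 ∨ q = 17 := by
  have e : (4030387200 : ℕ) = 2 ^ 10 * (3 ^ 3 * (5 ^ 2 * (7 ^ 3 * 17))) := by norm_num
  rw [e] at h
  have key : ∀ {r n : ℕ}, r.Prime → q ∣ r ^ n → q = r := fun hr h =>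
    (Nat.prime_dvd_prime_iff_eq hq hr).1 (hq.dvd_of_dvd_pow h)
  rcases (Nat.Prime.dvd_mul hq).1 h with h | h
  · exact Or.inl (key Nat.prime_two h)
  rcases (Nat.Prime.dvd_mul hq).1 h with h | h
  · exact Or.inr (Or.inl (key Nat.prime_three h))
  rcases (Nat.Prime.dvd_mul hq).1 h with h | h
  · exact Or.inr (Or.inr (Or.inl (key (by norm_num) h)))
  rcases (Nat.Prime.dvd_mul hq).1 h with h | h
  · exact Or.inr (Or.inr (Or.inr (Or.inl (key (by norm_num) h))))
  · exact Or.inr (Or.inr (Or.inr (Or.inr ((Nat.prime_dvd_prime_iff_eq hq (by norm_num)).1 h))))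

/-- **Row `He`** -/
theorem row {L : Type u} [Group L] [Finite L] (h : Spor.IsoHe L) {p : ℕ} {a : MulAut L} {b : L}
    (S : Sit p a b) : False := by
  obtain ⟨e⟩ := h
  have hL : Nat.card L = 4030387200 := (Nat.card_congr e.toEquiv).trans card_he
  have h1024 : 1024 ≤ Nat.card (fixedSubgroup a) := S.two_pow_le (k := 10) (by rw [hL]; norm_num)
  have hFC := Subgroup.card_dvd_of_le S.le
  have hFle : Nat.card (fixedSubgroup a) ≤ Nat.card ↥(centralizer ({b} : Set L)) := Nat.le_of_dvd Nat.card_pos hFC
  have hCe := card_centralizer_equiv e b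
  have ho : orderOf (e b) = orderOf b := MulEquiv.orderOf_eq e b
  -- no elements of order 35
  have h35 : ∀ x y : L, orderOf x = 5 → orderOf y = 7 → ¬ Commute y x := by
    intro x y hx hy hc
    exact five (b := e x) (y := e y) (by rw [MulEquiv.orderOf_eq, hx]) (by rw [MulEquiv.orderOf_eq, hy]) (hc.map e)
  have hmem : ∀ y : L, y ∈ fixedSubgroup a → Commute y b := fun y hy =>
    mem_centralizer_singleton_iff.1 (S.le hy)
  rcases prime_cases S.bprime (by rw [← hL]; exact orderOf_dvd_natCard b) with hb | hb | hb | hb | hb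
  · exact S.b_ne_two hb
  · -- order 3
    rcases three (ho.trans hb) with h3 | ⟨h3, h4⟩
    · omega
    · have h5 : 8 * Nat.card (fixedSubgroup a) ∣ Nat.card ↥(centralizer ({b} : Set L)) := by
        refine Nat.Coprime.mul_dvd_of_dvd_of_dvd ?_ (by rw [hCe]; exact h3) hFC
        exact Nat.Coprime.pow_left 3 (Nat.coprime_two_left.2 S.odd)
      have h6 := Nat.le_of_dvd Nat.card_pos h5
      omega
  · -- order 5
    have h7 : ¬ 7 ∣ Nat.card (fixedSubgroup a) := by
      intro h
      obtain ⟨y, hy, hyo⟩ := exists_order (by norm_num) h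
      exact h35 b y hb hyo (hmem y hy)
    have h17 : ¬ 17 ∣ Nat.card (fixedSubgroup a) := by
      intro h
      obtain ⟨y, hy, hyo⟩ := exists_order (by norm_num) h
      have h1 := seventeen (b := e y) (by rw [MulEquiv.orderOf_eq, hyo])
      rw [← card_centralizer_equiv] at h1
      have h2 : orderOf y ∣ Nat.card ↥(centralizer ({y} : Set L)) := by
        rw [← Subgroup.orderOf_mk y (mem_centralizer_singleton_iff.2 rfl)]
        exact orderOf_dvd_natCard _
      have h3 : orderOf b ∣ Nat.card ↥(centralizer ({y} : Set L)) := by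
        rw [← Subgroup.orderOf_mk b (mem_centralizer_singleton_iff.2 (hmem y hy).symm.eq)]
        exact orderOf_dvd_natCard _
      rw [hyo] at h2
      rw [hb] at h3
      have h4 : 17 * 5 ∣ Nat.card ↥(centralizer ({y} : Set L)) :=
        Nat.Coprime.mul_dvd_of_dvd_of_dvd (by norm_num) h2 h3
      have h5 := Nat.le_of_dvd Nat.card_pos h4
      omega
    have h1 : Nat.card (fixedSubgroup a) ∣ 2 ^ 10 * (7 ^ 3 * (17 * 675)) := by
      have := Subgroup.card_subgroup_dvd_card (fixedSubgroup a)
      rw [hL] at this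
      exact this.trans (by norm_num)
    have h2 := (Nat.Coprime.pow_right 10 (Nat.coprime_two_right.2 S.odd)).dvd_of_dvd_mul_left h1
    have c7 : (Nat.card (fixedSubgroup a)).Coprime 7 := ((Nat.Prime.coprime_iff_not_dvd (by norm_num)).2 h7).symm
    have c17 : (Nat.card (fixedSubgroup a)).Coprime 17 := ((Nat.Prime.coprime_iff_not_dvd (by norm_num)).2 h17).symm
    have h3 := (c7.pow_right 3).dvd_of_dvd_mul_left h2
    have h4 := Nat.le_of_dvd (by norm_num) (c17.dvd_of_dvd_mul_left h3)
    omega
  · -- order 7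
    have hN : Odd (Nat.card ↥(centralizer ({b} : Set L))) := by
      by_contra hev
      have h1 := CpAutHe.Seven.card_le (x := e b) (ho.trans hb) (by rw [← hCe]; exact hev)
      rw [← hCe] at h1
      rw [Nat.not_odd_iff_even, even_iff_two_dvd] at hev
      have h5 : 2 * Nat.card (fixedSubgroup a) ∣ Nat.card ↥(centralizer ({b} : Set L)) :=
        Nat.Coprime.mul_dvd_of_dvd_of_dvd (Nat.coprime_two_left.2 S.odd) hev hFC
      have h6 := Nat.le_of_dvd Nat.card_pos h5
      omega
    rcases seven (b := e b) (ho.trans hb) with h2 | ⟨g, hg⟩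
    · rw [← hCe, ← even_iff_two_dvd] at h2
      exact (Nat.not_even_iff_odd.2 hN) h2
    have hCC := Heis.card_cent_eq hg
    have hd := dvdC
    have hle := cardC
    rw [← hCC, ← hCe] at hd hle
    -- the order of `C(b)`
    have h5 : ¬ 5 ∣ Nat.card ↥(centralizer ({b} : Set L)) := by
      intro h
      obtain ⟨y, hy, hyo⟩ := exists_order (by norm_num) h
      exact h35 y b hyo hb (show Commute b y from (mem_centralizer_singleton_iff.1 hy).symm)
    have hFN : Nat.card (fixedSubgroup a) = 1029 ∧ Nat.card ↥(centralizer ({b} : Set L)) = 1029 := by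
      obtain ⟨m, hm⟩ := hd
      obtain ⟨k, hk⟩ := hFC
      have hm6 : m ≤ 6 := by omega
      have hk2 : k ≤ 2 := by
        by_contra hk3
        have : 1024 * 3 ≤ Nat.card (fixedSubgroup a) * k := Nat.mul_le_mul h1024 (by omega)
        omega
      have hk1 : k = 1 := by
        interval_cases k
        · omega
        · rfl
        · exfalso
          rw [hk] at hN
          exact (Nat.not_even_iff_odd.2 hN) (by rw [mul_comm]; exact even_two_mul _)
      rw [hk1, mul_one] at hk
      rw [hm] at h5 hN
      interval_cases m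
      · omega
      · omega
      · exact absurd hN (by decide)
      · omega
      · exact absurd hN (by decide)
      · exact absurd (by norm_num) h5
      · exact absurd hN (by decide)
    have hFe : fixedSubgroup a = centralizer ({b} : Set L) :=
      Subgroup.eq_of_le_of_card_ge S.le (by rw [hFN.1, hFN.2])
    -- the involution inverting `b`
    obtain ⟨hT, hTi⟩ := invC
    obtain ⟨k, hk⟩ := mem_zpowers_iff.1 (show g * e b * g⁻¹ ∈ zpowers (wd XC) by rw [← hg]; exact mem_zpowers _)
    let T := wd T7c
    let s : L := e.symm (g⁻¹ * T * g)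
    have hes : e s = g⁻¹ * T * g := e.apply_symm_apply _
    have hso : orderOf s = 2 := by
      rw [← MulEquiv.orderOf_eq e, hes, ← hT]
      have : g⁻¹ * T * g = MulAut.conj g⁻¹ T := by rw [MulAut.conj_apply, inv_inv]
      rw [this, MulEquiv.orderOf_eq]
    have hsb : s * b * s⁻¹ = b⁻¹ := by
      apply e.injective
      rw [map_mul, map_mul, map_inv, map_inv, hes]
      have h1 : T * (g * e b * g⁻¹) * T⁻¹ = (g * e b * g⁻¹)⁻¹ := by
        rw [← hk, ← conj_zpow, hTi, inv_zpow]
      calc g⁻¹ * T * g * e b * (g⁻¹ * T * g)⁻¹ = g⁻¹ * (T * (g * e b * g⁻¹) * T⁻¹) * g := by group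
        _ = g⁻¹ * (g * e b * g⁻¹)⁻¹ * g := by rw [h1]
        _ = (e b)⁻¹ := by group
    have hsb' : s⁻¹ * b⁻¹ * s = b := by
      rw [← hsb]
      group
    have hab := S.fix_b
    set f : L := (a s)⁻¹ * s with hf
    have hfb : ∀ x : L, x ∈ fixedSubgroup a → f * x * f⁻¹ = x := by
      intro x hx
      have hxb : x * b = b * x := (hmem x hx).eq
      have h1 : s * x * s⁻¹ ∈ fixedSubgroup a := by
        rw [hFe, mem_centralizer_singleton_iff]
        have h2 : b = s * b⁻¹ * s⁻¹ := by
          calc b = (b⁻¹)⁻¹ := (inv_inv b).symm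
            _ = (s * b * s⁻¹)⁻¹ := by rw [hsb]
            _ = s * b⁻¹ * s⁻¹ := by group
        calc s * x * s⁻¹ * b = s * x * s⁻¹ * (s * b⁻¹ * s⁻¹) := by rw [← h2]
          _ = s * (x * b⁻¹) * s⁻¹ := by group
          _ = s * (b⁻¹ * x) * s⁻¹ := by rw [((show Commute x b from hxb).inv_right).eq]
          _ = (s * b⁻¹ * s⁻¹) * (s * x * s⁻¹) := by group
          _ = b * (s * x * s⁻¹) := by rw [← h2]
      have h1' : a (s * x * s⁻¹) = s * x * s⁻¹ := h1
      have hx' : a x = x := hx
      calc f * x * f⁻¹ = (a s)⁻¹ * (s * x * s⁻¹) * a s := by rw [hf]; group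
        _ = (a s)⁻¹ * a (s * x * s⁻¹) * a s := by rw [h1']
        _ = a x := by rw [map_mul, map_mul, map_inv]; group
        _ = x := hx'
    have hfF : f ∈ fixedSubgroup a := by
      rw [hFe, mem_centralizer_singleton_iff]
      have h1 := hfb b hab
      rwa [mul_inv_eq_iff_eq_mul] at h1
    have hf1 : f ≠ 1 := by
      intro h1
      rw [hf, inv_mul_eq_one] at h1
      have h2 : s ∈ fixedSubgroup a := h1
      have h3 : orderOf s ∣ Nat.card (fixedSubgroup a) := by
        rw [← Subgroup.orderOf_mk s h2]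
        exact orderOf_dvd_natCard _
      rw [hso, ← even_iff_two_dvd] at h3
      exact (Nat.not_even_iff_odd.2 S.odd) h3
    have hpf : p ∣ orderOf f := (S.bad s).resolve_left hf1
    have hp1029 : p ∣ 1029 := by
      rw [← hFN.1]
      refine hpf.trans ?_
      rw [← Subgroup.orderOf_mk f hfF]
      exact orderOf_dvd_natCard _
    -- an element of order `p` of the center
    obtain ⟨d, hd'⟩ := hpf
    have hd0 : d ≠ 0 := by
      rintro rfl
      rw [mul_zero] at hd'
      exact (orderOf_pos f).ne' hd'
    have hyo : orderOf (f ^ d) = p := by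
      rw [orderOf_pow_of_dvd hd0 (by rw [hd']; exact dvd_mul_left _ _), hd', Nat.mul_div_cancel _ (Nat.pos_of_ne_zero hd0)]
    have hFy : fixedSubgroup a ≤ centralizer ({f ^ d} : Set L) := by
      intro x hx
      rw [mem_centralizer_singleton_iff]
      have h1 : Commute f x := by
        have := hfb x hx
        rwa [mul_inv_eq_iff_eq_mul] at this
      exact (h1.pow_left d).symm.eq
    have hp37 : p = 3 ∨ p = 7 := by
      have e : (1029 : ℕ) = 3 * 7 ^ 3 := by norm_num
      rw [e] at hp1029
      rcases (Nat.Prime.dvd_mul S.prime).1 hp1029 with h | h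
      · exact Or.inl ((Nat.prime_dvd_prime_iff_eq S.prime Nat.prime_three).1 h)
      · exact Or.inr ((Nat.prime_dvd_prime_iff_eq S.prime (by norm_num)).1 (S.prime.dvd_of_dvd_pow h))
    rcases hp37 with hp | hp
    · rw [hp] at hyo
      have h1 := Subgroup.card_dvd_of_le hFy
      rw [hFN.1] at h1
      have h2 := Nat.le_of_dvd Nat.card_pos h1
      rcases three (b := e (f ^ d)) (by rw [MulEquiv.orderOf_eq, hyo]) with h3 | ⟨h3, h4⟩
      · rw [← card_centralizer_equiv] at h3
        omega
      · rw [← card_centralizer_equiv] at h3 h4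
        have h5 : 8 * 1029 ∣ Nat.card ↥(centralizer ({f ^ d} : Set L)) :=
          Nat.Coprime.mul_dvd_of_dvd_of_dvd (by norm_num) h3 h1
        have h6 := Nat.le_of_dvd Nat.card_pos h5
        omega
    · have h1 : Nat.card ↥(St.comap e.toMonoidHom) = 1958400 := by
        have h0 := Subgroup.card_map_of_injective (K := St.comap e.toMonoidHom) (f := e.toMonoidHom) e.injective
        rw [← h0, Subgroup.map_comap_eq_self_of_surjective e.surjective, card_St]
      have h2 := S.card_le (Q := St.comap e.toMonoidHom) (by rw [h1, hp]; norm_num)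
      rw [h1, hFN.1] at h2
      omega
  · -- order 17
    have h1 := seventeen (ho.trans hb)
    omega

end Cfsg.Agent.H19.Odd.He
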