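import Cfsg.Agent.H474.ONC.End

/-!
# No element of order 21 with a `7A` part in the O'Nan group (helper19)

`not_three_x7` : `3 ∤ |C(x7)|`. Otherwise an element `y` of order 3 commutes with the unitriangular matrices of
`SL(3, 7)`, hence (`7 ∤ 3^c - 1`, `c ≤ 4`) with the elements of order 7 of a parabolic subgroup, among them two
transvections generating an involution commuting with one of them; but elements of order 3, 7, 2 do not commute.
-/

set_option autoImplicit false
set_option linter.unusedSectionVars false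
set_option linter.unnecessarySeqFocus false
set_option maxRecDepth 100000

namespace Cfsg.Agent.H19.Odd.ONSeven

open Subgroup Cfsg Matrix
open Cfsg.Spor (ON)
open Cfsg.Agent.SporadicB.ON45Word (on)
open Cfsg.Agent.KFacts.ON.Words (v)
open Cfsg.Agent.KFacts.ON.Cent (finite_ON card_K0)
open Cfsg.Agent.ONType.TupK (K0)
open Cfsg.Agent.H474.ONC
open Cfsg.Agent.BpSpor.ONanThree (U U_mul U_zero U_pow U_seven)

/-! ### generic -/

section Gen

variable {G : Type*} [Group G]

theorem comm_conj {h a b : G} (hab : a * b = b * a) : (h * a * h⁻¹) * (h * b * h⁻¹) = (h * b * h⁻¹) * (h * a * h⁻¹) := by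
  calc (h * a * h⁻¹) * (h * b * h⁻¹) = h * (a * b) * h⁻¹ := by group
    _ = h * (b * a) * h⁻¹ := by rw [hab]
    _ = _ := by group

theorem order_conj (h a : G) : orderOf (h * a * h⁻¹) = orderOf a := by
  rw [← MulAut.conj_apply, MulEquiv.orderOf_eq]

variable [Finite G]

theorem card_mul_relIndex {H K : Subgroup G} (h : H ≤ K) :
    Nat.card H * H.relIndex K = Nat.card K := by
  rw [Subgroup.relIndex, ← Nat.card_congr (Subgroup.subgroupOfEquivOfLe h).toEquiv]
  exact Subgroup.card_mul_index _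

theorem card_sup_mul {K H : Subgroup G} (h : H ≤ normalizer (K : Set G)) :
    Nat.card (K ⊔ H : Subgroup G) * Nat.card (K ⊓ H : Subgroup G) = Nat.card K * Nat.card H := by
  have hKn : (K.subgroupOf (K ⊔ H)).Normal :=
    normal_subgroupOf_of_le_normalizer (sup_le le_normalizer h)
  have h1 := relIndex_sup_left (H.subgroupOf (K ⊔ H)) (K.subgroupOf (K ⊔ H))
  rw [← Subgroup.subgroupOf_sup le_sup_left le_sup_right, Subgroup.subgroupOf_self,
    Subgroup.relIndex_subgroupOf le_sup_right, relIndex_top_right] at h1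
  have h2 : Nat.card K * K.relIndex H = Nat.card (K ⊔ H : Subgroup G) := by
    rw [← h1]
    exact card_mul_relIndex le_sup_left
  have h3 : Nat.card (K ⊓ H : Subgroup G) * K.relIndex H = Nat.card H := by
    rw [← Subgroup.inf_relIndex_right K H]
    exact card_mul_relIndex inf_le_right
  calc _ = Nat.card (K ⊔ H : Subgroup G) * Nat.card (K ⊓ H : Subgroup G) := rfl
    _ = Nat.card K * (Nat.card (K ⊓ H : Subgroup G) * K.relIndex H) := by rw [← h2]; ring
    _ = _ := by rw [h3]

theorem mem_zpowers_of_ne {p : ℕ} [hp : Fact p.Prime] {x y : G} (hx : orderOf x = p) (hy : y ∈ zpowers x) (hy1 : y ≠ 1) :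
    x ∈ zpowers y := by
  have h1 : zpowers y = zpowers x := by
    have hle : zpowers y ≤ zpowers x := zpowers_le.mpr hy
    apply Subgroup.eq_of_le_of_card_ge hle
    rw [Nat.card_zpowers, Nat.card_zpowers, hx]
    have h2 : orderOf y ∣ p := by
      have := Subgroup.card_dvd_of_le hle
      rwa [Nat.card_zpowers, Nat.card_zpowers, hx] at this
    rcases (Nat.dvd_prime hp.out).mp h2 with h3 | h3
    · exact absurd (orderOf_eq_one_iff.mp h3) hy1
    · exact h3.ge
  rw [h1]
  exact mem_zpowers x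

/-- The order of `A ⊔ ⟨x⟩`. -/
theorem card_sup_zpowers {p : ℕ} [hp : Fact p.Prime] {A : Subgroup G} {x : G}
    (hx : orderOf x = p) (hxA : ∀ a ∈ A, a * x = x * a) (hn : x ∉ A) :
    Nat.card (A ⊔ zpowers x : Subgroup G) = Nat.card A * p := by
  have hinf : A ⊓ zpowers x = ⊥ := by
    rw [Subgroup.eq_bot_iff_forall]
    rintro y ⟨hyA, hyx⟩
    by_contra hy1
    exact hn ((zpowers_le.mpr hyA) (mem_zpowers_of_ne hx hyx hy1))
  have hnorm : zpowers x ≤ Subgroup.normalizer (A : Set G) := by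
    rw [zpowers_le, Subgroup.mem_normalizer_iff]
    intro a
    constructor
    · intro ha
      rw [← hxA a ha, mul_inv_cancel_right]
      exact ha
    · intro ha
      have h1 := hxA _ ha
      have h2 : a = x * a * x⁻¹ := by
        have h3 : x * a * x⁻¹ * x = x * (x * a * x⁻¹) := h1
        have h4 : x * a = x * (x * a * x⁻¹) := by rw [← h3]; group
        exact mul_left_cancel h4
      rwa [h2]
  have h := card_sup_mul hnorm
  rw [hinf, Subgroup.card_bot, mul_one, Nat.card_zpowers, hx] at h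
  exact h

/-- the two-element version -/
theorem card_sup_two {p : ℕ} [hp : Fact p.Prime] {x u : G} (hx : orderOf x = p) (hu : orderOf u = p)
    (hc : x * u = u * x) (hn : u ∉ zpowers x) : Nat.card (zpowers x ⊔ zpowers u : Subgroup G) = p * p := by
  rw [card_sup_zpowers hu ?_ hn, Nat.card_zpowers, hx]
  rintro _ ⟨i, rfl⟩
  exact ((show Commute x u from hc).zpow_left i).eq

end Gen

/-! ### involutions -/

theorem order_f : orderOf (on .f) = 2 := by
  rw [← v_sq, orderOf_pow_of_dvd (by norm_num) (by rw [order_v]; norm_num), order_v]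

theorem x7_mem : x7 ∈ K0 := CpAutON.Seven.x0_mem

/-- commuting elements of order 7 and 2 are conjugate into `⟨x7⟩`, `f` -/
theorem into {g i : ON} (hg : orderOf g = 7) (hi : orderOf i = 2) (hgi : g * i = i * g) :
    ∃ h : ON, h * g * h⁻¹ ∈ zpowers x7 ∧ h * i * h⁻¹ = on .f := by
  have hfin := finite_ON
  have h7 : Fact (Nat.Prime 7) := ⟨by norm_num⟩
  have hi1 : i * i = 1 := by rw [← pow_two, ← hi, pow_orderOf_eq_one]
  have hi2 : i ≠ 1 := by
    rintro rfl
    rw [orderOf_one] at hi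
    omega
  obtain ⟨h, hh⟩ := isConj_iff.1 (KFacts.ON.OneClass.one_class hi1 hi2)
  have hgK : h * g * h⁻¹ ∈ K0 := by
    rw [KFacts.ON.OneClass.mem_K0, ← hh]
    exact comm_conj hgi
  obtain ⟨k, hk⟩ := CpAutON.Gen.conj_into (G := K0) (p := 7) (by rw [card_K0]; norm_num)
    (x := ⟨h * g * h⁻¹, hgK⟩) (y := ⟨x7, x7_mem⟩) (by rw [← Subgroup.orderOf_coe]; exact (order_conj h g).trans hg)
    (by rw [← Subgroup.orderOf_coe]; exact order_x7)
  refine ⟨(k : ON) * h, ?_, ?_⟩
  · obtain ⟨n, hn⟩ := mem_zpowers_iff.1 hk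
    have hn' : x7 ^ n = (k : ON) * (h * g * h⁻¹) * (k : ON)⁻¹ := congrArg Subtype.val hn
    have e : (k : ON) * h * g * ((k : ON) * h)⁻¹ = (k : ON) * (h * g * h⁻¹) * (k : ON)⁻¹ := by group
    rw [e, ← hn']
    exact zpow_mem (mem_zpowers _) n
  · have hk' : (k : ON) * on .f = on .f * k := KFacts.ON.OneClass.mem_K0.1 k.2
    calc (k : ON) * h * i * ((k : ON) * h)⁻¹ = (k : ON) * (h * i * h⁻¹) * (k : ON)⁻¹ := by group
      _ = (k : ON) * on .f * (k : ON)⁻¹ := by rw [hh]
      _ = on .f := by rw [hk', mul_inv_cancel_right]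

/-- **There are no commuting elements of order 3, 7, 2.** -/
theorem no_triple {y g i : ON} (hy : orderOf y = 3) (hg : orderOf g = 7) (hi : orderOf i = 2) (hgi : g * i = i * g)
    (hyg : y * g = g * y) (hyi : y * i = i * y) : False := by
  have hfin := finite_ON
  have h7 : Fact (Nat.Prime 7) := ⟨by norm_num⟩
  obtain ⟨h, h1, h2⟩ := into hg hi hgi
  have hg1 : h * g * h⁻¹ ≠ 1 := by
    intro he
    have := order_conj h g
    rw [he, orderOf_one, hg] at this
    omega
  obtain ⟨n, hn⟩ := mem_zpowers_iff.1 (mem_zpowers_of_ne order_x7 h1 hg1)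
  have hyx : (h * y * h⁻¹) * x7 = x7 * (h * y * h⁻¹) := by
    rw [← hn]
    exact ((show Commute (h * y * h⁻¹) (h * g * h⁻¹) from comm_conj hyg).zpow_right n).eq
  have hyf : (h * y * h⁻¹) * v ^ 2 = v ^ 2 * (h * y * h⁻¹) := by
    rw [v_sq, ← h2]
    exact comm_conj hyi
  have hyo : orderOf (h * y * h⁻¹) = 3 := (order_conj h y).trans hy
  have h3 := loc7.odd hyx hyf (n := 3) (by decide) (by rw [← hyo, pow_orderOf_eq_one])
  have h4 : orderOf (h * y * h⁻¹) ∣ 7 := by
    rw [← order_x7, ← Nat.card_zpowers x7]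
    rw [← Subgroup.orderOf_mk _ h3]
    exact orderOf_dvd_natCard _
  rw [hyo] at h4
  revert h4
  norm_num

/-! ### Sylow 7-subgroups -/

/-- an abelian subgroup of order 49 is not centralized by further 7-elements -/
theorem false_of_comm {B : Subgroup ON} (hB : Nat.card B = 49) {t : ON} (ht : IsPGroup 7 (zpowers t)) (htB : t ∉ B)
    (hc : ∀ b ∈ B, b * t = t * b) : False := by
  have h7 : Fact (Nat.Prime 7) := ⟨by norm_num⟩
  have hfin := finite_ON
  have hBab : ∀ a ∈ B, ∀ b ∈ B, a * b = b * a := by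
    intro a ha b hb
    have h1 := IsPGroup.isMulCommutative_of_card_eq_prime_sq (p := 7) (G := B) (by rw [hB]; norm_num)
    exact congrArg Subtype.val (h1.is_comm.comm ⟨a, ha⟩ ⟨b, hb⟩)
  obtain ⟨E, hE⟩ : ∃ E : Subgroup ON, E = B ⊔ zpowers t := ⟨_, rfl⟩
  have hE1 : E ≤ centralizer (B : Set ON) ⊓ centralizer ({t} : Set ON) := by
    rw [hE]
    refine sup_le (le_inf ?_ ?_) (le_inf ?_ ?_)
    · intro a ha
      rw [mem_centralizer_iff]
      intro b hb
      exact hBab b hb a ha
    · intro a ha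
      exact mem_cent.2 (hc a ha)
    · rw [zpowers_le, mem_centralizer_iff]
      intro b hb
      exact hc b hb
    · rw [zpowers_le]
      exact mem_cent.2 rfl
  have hEc : ∀ a ∈ E, ∀ b ∈ E, a * b = b * a := by
    have h1 : E ≤ centralizer (E : Set ON) := by
      conv_lhs => rw [hE]
      refine sup_le ?_ ?_
      · intro b hb
        rw [mem_centralizer_iff]
        intro e he
        exact ((mem_centralizer_iff.1 (hE1 he).1) b hb).symm
      · rw [zpowers_le, mem_centralizer_iff]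
        intro e he
        exact mem_cent.1 (hE1 he).2
    intro a ha b hb
    exact (mem_centralizer_iff.1 (h1 hb)) a ha
  have hEp : IsPGroup 7 ↥E := by
    rw [hE]
    refine IsPGroup.to_sup_of_normal_right' (IsPGroup.of_card (n := 2) (by rw [hB]; norm_num)) ht ?_
    intro b hb
    apply mem_normalizer_of_conj
    rw [hc b hb, mul_inv_cancel_right]
    exact mem_zpowers t
  obtain ⟨k, hk⟩ := IsPGroup.iff_card.1 hEp
  have hk3 : k ≤ 3 := by
    obtain ⟨R, hR⟩ := hEp.exists_le_sylow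
    have h1 := card_dvd_of_le hR
    have h2 : Nat.card ↥(R : Subgroup ON) = 343 := card_sylow_seven R
    rw [h2, hk, show 343 = 7 ^ 3 by norm_num] at h1
    exact (Nat.pow_dvd_pow_iff_le_right (by norm_num)).1 h1
  have hk2 : 2 < k := by
    by_contra hc'
    have h1 : B = E := by
      refine eq_of_le_of_card_ge (by rw [hE]; exact le_sup_left) ?_
      rw [hB, hk]
      calc 7 ^ k ≤ 7 ^ 2 := Nat.pow_le_pow_right (by norm_num) (by omega)
        _ = 49 := by norm_num
    apply htB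
    rw [h1, hE]
    exact (le_sup_right : zpowers t ≤ _) (mem_zpowers t)
  have hk' : k = 3 := by omega
  rw [hk'] at hk
  exact BpSpor.ONanThree.not_abelian hk hEc

/-- a subgroup of order 343 in `C(y)` if `343 ∣ |C(y)|` -/
theorem exists_343 {D : Subgroup ON} (h : 343 ∣ Nat.card D) : ∃ P : Subgroup ON, Nat.card P = 343 ∧ P ≤ D := by
  have h7 : Fact (Nat.Prime 7) := ⟨by norm_num⟩
  have hfin := finite_ON
  obtain ⟨Q, hQ⟩ := Sylow.exists_subgroup_card_pow_prime (G := ↥D) 7 (n := 3) (by norm_num; exact h)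
  refine ⟨Q.map D.subtype, ?_, ?_⟩
  · rw [card_map_of_injective (subtype_injective _), hQ]
    norm_num
  · rintro _ ⟨q, -, rfl⟩
    exact q.2

/-- subgroups of order 343 contain a conjugate of every 7-subgroup -/
theorem conj_seven {P V : Subgroup ON} (hP : Nat.card P = 343) (hV : IsPGroup 7 V) :
    ∃ g : ON, ∀ a ∈ V, g⁻¹ * a * g ∈ P := by
  have h7 : Fact (Nat.Prime 7) := ⟨by norm_num⟩
  have hfin := finite_ON
  obtain ⟨P1, hP1⟩ := (IsPGroup.of_card (p := 7) (n := 3) (G := P) (by rw [hP]; norm_num)).exists_le_sylow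
  have hPe : P = (P1 : Subgroup ON) := by
    refine eq_of_le_of_card_ge hP1 ?_
    have := card_sylow_seven P1
    rw [hP]
    exact this.le
  obtain ⟨Q1, hQ1⟩ := hV.exists_le_sylow
  obtain ⟨g, hg⟩ := MulAction.exists_smul_eq ON P1 Q1
  refine ⟨g, fun a ha => ?_⟩
  have h1 := hQ1 ha
  rw [← hg] at h1
  obtain ⟨b, hb, hab⟩ := h1
  have h2 : a = g * b * g⁻¹ := hab.symm
  rw [h2]
  have e : g⁻¹ * (g * b * g⁻¹) * g = b := by group
  rw [e, hPe]
  exact hb

/-- `x7` is centralized by a subgroup of order 343 -/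
theorem exists_P0 : ∃ P : Subgroup ON, Nat.card P = 343 ∧ ∀ a ∈ P, a * x7 = x7 * a := by
  obtain ⟨P, hP, hPC⟩ := exists_343 n7_343
  exact ⟨P, hP, fun a ha => mem_cent.1 (hPC ha)⟩

/-- every 7-subgroup is centralized by a conjugate of `x7` -/
theorem exists_conj_comm {V : Subgroup ON} (hV : IsPGroup 7 V) :
    ∃ g : ON, ∀ a ∈ V, a * (g * x7 * g⁻¹) = (g * x7 * g⁻¹) * a := by
  obtain ⟨P, hP, hPx⟩ := exists_P0
  obtain ⟨g, hg⟩ := conj_seven hP hV
  refine ⟨g, fun a ha => ?_⟩
  have h1 := comm_conj (h := g) (hPx _ (hg a ha))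
  have e : g * (g⁻¹ * a * g) * g⁻¹ = a := by group
  rwa [e] at h1

/-! ### the matrices -/

/-- the homomorphism -/
theorem exists_hom : ∃ φ : SpecialLinearGroup (Fin 3) (ZMod 7) →* ON,
    ∀ x, φ x = 1 → x ∈ center (SpecialLinearGroup (Fin 3) (ZMod 7)) := by
  obtain ⟨N, -, -, ⟨e⟩⟩ := S1693.result
  let q : SpecialLinearGroup (Fin 3) (ZMod 7) →* Matrix.ProjectiveSpecialLinearGroup (Fin 3) (ZMod 7) :=
    QuotientGroup.mk' _
  refine ⟨(Subgroup.subtype _).comp (N.subtype.comp (e.symm.toMonoidHom.comp q)), fun x hx => ?_⟩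
  have h1 : e.symm (q x) = 1 := Subtype.ext (Subtype.ext hx)
  have h2 : q x = 1 := by
    rw [← map_one e.symm] at h1
    exact e.symm.injective h1
  exact (QuotientGroup.eq_one_iff _).1 h2

/-- a matrix in the center is scalar -/
theorem scalar_of_center {A : SpecialLinearGroup (Fin 3) (ZMod 7)} (h : A ∈ center (SpecialLinearGroup (Fin 3) (ZMod 7))) :
    (A.1 0 1 = 0 ∧ A.1 0 2 = 0 ∧ A.1 1 2 = 0 ∧ A.1 1 0 = 0) ∧ A.1 0 0 = A.1 2 2 := by
  rw [Matrix.SpecialLinearGroup.mem_center_iff] at h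
  obtain ⟨r, -, hr⟩ := h
  have h2 : ∀ i j, A.1 i j = (Matrix.scalar (Fin 3) r) i j := fun i j => (congrFun (congrFun hr i) j).symm
  simp only [h2, Matrix.scalar_apply]
  refine ⟨⟨?_, ?_, ?_, ?_⟩, ?_⟩
  · exact Matrix.diagonal_apply_ne _ (by decide)
  · exact Matrix.diagonal_apply_ne _ (by decide)
  · exact Matrix.diagonal_apply_ne _ (by decide)
  · exact Matrix.diagonal_apply_ne _ (by decide)
  · rw [Matrix.diagonal_apply_eq, Matrix.diagonal_apply_eq]

/-- the lower transvection -/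
def T : SpecialLinearGroup (Fin 3) (ZMod 7) := ⟨!![1, 0, 0; -1, 1, 0; 0, 0, 1], by simp [Matrix.det_fin_three]⟩

/-- the involution -/
def I : SpecialLinearGroup (Fin 3) (ZMod 7) := ⟨!![-1, 0, 0; 0, -1, 0; 0, 0, 1], by simp [Matrix.det_fin_three]⟩

theorem I_eq : I = (U 1 0 0 * T * U 1 0 0) * (U 1 0 0 * T * U 1 0 0) := by
  apply Subtype.ext
  decide +kernel

theorem I_sq : I * I = 1 := by
  apply Subtype.ext
  decide +kernel

theorem I_comm : U 1 0 0 * I = I * U 1 0 0 := by
  apply Subtype.ext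
  decide +kernel

theorem T_pow : T ^ 7 = 1 := by
  have h : T ^ 7 = T * T * T * T * T * T * T := by
    simp only [pow_succ, pow_zero, one_mul]
  rw [h]
  apply Subtype.ext
  decide +kernel

theorem T_U (b c : ZMod 7) : T * U 0 b c = U 0 (b - c) c * T := by
  apply Subtype.ext
  show T.1 * (U 0 b c).1 = (U 0 (b - c) c).1 * T.1
  ext i j
  fin_cases i <;> fin_cases j <;> simp [T, U, BpSpor.ONanThree.um, Matrix.mul_apply, Fin.sum_univ_three] <;> ring

theorem U_U (b c : ZMod 7) : U 1 0 0 * U 0 b c = U 0 b (c + b) * U 1 0 0 := by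
  rw [U_mul, U_mul]
  congr 1 <;> ring

theorem one_ne : ¬ (1 : ZMod 7) = 0 := by decide
theorem neg_ne : ¬ (-1 : ZMod 7) = 0 := by decide
theorem neg_ne_one : ¬ (-1 : ZMod 7) = 1 := by decide

/-- the radical `7²` -/
def W : Subgroup (SpecialLinearGroup (Fin 3) (ZMod 7)) where
  carrier := {M | ∃ b c, M = U 0 b c}
  mul_mem' := by
    rintro _ _ ⟨b, c, rfl⟩ ⟨b', c', rfl⟩
    exact ⟨b + b', c + c', by rw [U_mul]; congr 1 <;> ring⟩
  one_mem' := ⟨0, 0, U_zero.symm⟩
  inv_mem' := by
    rintro _ ⟨b, c, rfl⟩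
    refine ⟨-b, -c, ?_⟩
    rw [inv_eq_iff_mul_eq_one, U_mul, ← U_zero]
    congr 1 <;> ring

theorem mem_W {M : SpecialLinearGroup (Fin 3) (ZMod 7)} : M ∈ W ↔ ∃ b c, M = U 0 b c := Iff.rfl

theorem U_inj {b c b' c' : ZMod 7} (h : U 0 b c = U 0 b' c') : b = b' ∧ c = c' := by
  have h1 : (U 0 b c).1 = (U 0 b' c').1 := congrArg Subtype.val h
  exact ⟨congrFun (congrFun h1 1) 2, congrFun (congrFun h1 0) 2⟩

theorem card_W : Nat.card W = 49 := by
  have e : ZMod 7 × ZMod 7 ≃ W :=
    { toFun := fun p => ⟨U 0 p.1 p.2, p.1, p.2, rfl⟩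
      invFun := fun M => (M.1.1 1 2, M.1.1 0 2)
      left_inv := fun p => rfl
      right_inv := by
        rintro ⟨_, b, c, rfl⟩
        rfl }
  rw [← Nat.card_congr e, Nat.card_prod, Nat.card_zmod]

/-- **`3 ∤ |C(x7)|`** -/
theorem not_three_x7 : ¬ 3 ∣ Nat.card ↥(centralizer ({x7} : Set ON)) := by
  intro h3
  have hfin := finite_ON
  have h7F : Fact (Nat.Prime 7) := ⟨by norm_num⟩
  have h3F : Fact (Nat.Prime 3) := ⟨Nat.prime_three⟩
  obtain ⟨y, hy, hyx⟩ := exists_comm Nat.prime_three h3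
  obtain ⟨M, hM, hMn, hodd, hcard, hmem⟩ := loc7.exists_compl
  have hyM : y ∈ M := hmem y (mem_cent.2 hyx) (by rw [hy]; decide)
  have hyc := loc7.comm_of hM hMn hodd hyM (r := 3) (by norm_num) (by rw [← hy, pow_orderOf_eq_one])
  -- `y` commutes with a subgroup of order 343
  have h343 : 343 ∣ Nat.card M := by
    have h1 := n7_343
    rw [hcard] at h1
    exact (Nat.Coprime.dvd_mul_left (by norm_num : Nat.Coprime 343 4)).1 h1
  obtain ⟨P, hP, hPM⟩ := exists_343 h343
  -- and with the unitriangular matrices, up to conjugation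
  obtain ⟨φ, hφ⟩ := exists_hom
  obtain ⟨g, hg⟩ := conj_seven hP (BpSpor.ONanThree.isPGroup_uni.map φ)
  obtain ⟨y', hy'⟩ : ∃ y', y' = g * y * g⁻¹ := ⟨_, rfl⟩
  have hyo : orderOf y' = 3 := by rw [hy', order_conj, hy]
  have hyU : ∀ a b c : ZMod 7, y' * φ (U a b c) = φ (U a b c) * y' := by
    intro a b c
    have h1 := comm_conj (h := g) (hyc _ (hPM (hg (φ (U a b c)) ⟨U a b c, ⟨a, b, c, rfl⟩, rfl⟩)))
    have e : g * (g⁻¹ * φ (U a b c) * g) * g⁻¹ = φ (U a b c) := by group
    rw [e, ← hy'] at h1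
    exact h1
  -- the radical
  have hinj : Function.Injective (φ.comp W.subtype) := by
    rw [injective_iff_map_eq_one]
    rintro ⟨_, b, c, rfl⟩ h1
    have h2 := (scalar_of_center (hφ (U 0 b c) h1)).1
    have hb : b = 0 := h2.2.2.1
    have hc : c = 0 := h2.2.1
    apply Subtype.ext
    show U 0 b c = 1
    rw [hb, hc, U_zero]
  obtain ⟨E, hE⟩ : ∃ E : Subgroup ON, E = W.map φ := ⟨_, rfl⟩
  have hEm : ∀ x, x ∈ E ↔ ∃ b c, x = φ (U 0 b c) := by
    intro x
    rw [hE]
    constructor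
    · rintro ⟨_, ⟨b, c, rfl⟩, rfl⟩
      exact ⟨b, c, rfl⟩
    · rintro ⟨b, c, rfl⟩
      exact ⟨_, ⟨b, c, rfl⟩, rfl⟩
  have hEc : Nat.card E = 49 := by
    have h1 : E = (φ.comp W.subtype).range := by
      rw [hE, MonoidHom.range_comp, Subgroup.range_subtype]
    rw [h1, ← card_W]
    exact (Nat.card_congr (MonoidHom.ofInjective hinj).toEquiv).symm
  obtain ⟨D, hD⟩ : ∃ D : Subgroup ON, D = centralizer (E : Set ON) := ⟨_, rfl⟩
  have hDm : ∀ x, x ∈ D ↔ ∀ e ∈ E, e * x = x * e := by
    intro x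
    rw [hD]
    exact mem_centralizer_iff
  have hEab : ∀ a ∈ E, ∀ b ∈ E, a * b = b * a := by
    intro a ha b hb
    have h1 := IsPGroup.isMulCommutative_of_card_eq_prime_sq (p := 7) (G := E) (by rw [hEc]; norm_num)
    exact congrArg Subtype.val (h1.is_comm.comm ⟨a, ha⟩ ⟨b, hb⟩)
  have hED : E ≤ D := fun x hx => (hDm x).2 fun e he => hEab e he x hx
  have hyD : y' ∈ D := by
    rw [hDm]
    intro e he
    obtain ⟨b, c, rfl⟩ := (hEm e).1 he
    exact (hyU 0 b c).symm
  -- the order of `D`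
  have h49 : 49 ∣ Nat.card D := hEc ▸ card_dvd_of_le hED
  have hD2 : ¬ 2 ∣ Nat.card D := by
    intro h2
    have h2F : Fact (Nat.Prime 2) := ⟨Nat.prime_two⟩
    obtain ⟨i, hi⟩ := exists_prime_orderOf_dvd_card' (G := D) 2 h2
    have hio : orderOf (i : ON) = 2 := by rw [orderOf_coe, hi]
    obtain ⟨r, hr⟩ := isConj_iff.1 (KFacts.ON.OneClass.one_class
      (by rw [← pow_two, ← hio, pow_orderOf_eq_one] : (i : ON) * i = 1)
      (by intro h; rw [h, orderOf_one] at hio; omega))
    have h5 : E.map (MulAut.conj r).toMonoidHom ≤ centralizer ({on .f} : Set ON) := by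
      rintro _ ⟨e, he, rfl⟩
      rw [mem_cent, ← hr]
      exact comm_conj ((hDm _).1 i.2 e he)
    have h6 := card_dvd_of_le h5
    rw [card_map_of_injective (MulAut.conj r).injective, hEc, KFacts.ON.Cent.card_cent] at h6
    revert h6
    norm_num
  have h343' : ¬ 343 ∣ Nat.card D := by
    intro h
    obtain ⟨P', hP', hPD⟩ := exists_343 h
    have hn : ¬ P' ≤ E := by
      intro hle
      have := Nat.le_of_dvd Nat.card_pos (card_dvd_of_le hle)
      rw [hP', hEc] at this
      omega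
    obtain ⟨t, ht, htE⟩ := Set.not_subset.1 hn
    exact false_of_comm hEc (t := t) ((IsPGroup.of_card (p := 7) (n := 3) (by rw [hP']; norm_num)).to_le
      ((zpowers_le).2 ht)) htE fun b hb => (hDm t).1 (hPD ht) b hb
  have hDdvd : Nat.card D ∣ Nat.card ↥(centralizer ({x7} : Set ON)) := by
    obtain ⟨r, hr⟩ := exists_conj hEc
    have h1 : D.map (MulAut.conj r⁻¹).toMonoidHom ≤ centralizer ({x7} : Set ON) := by
      rintro _ ⟨d, hd, rfl⟩
      rw [mem_cent]
      have h2 := comm_conj (h := r⁻¹) ((hDm d).1 hd _ hr)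
      have e : r⁻¹ * (r * x7 * r⁻¹) * r⁻¹⁻¹ = x7 := by group
      rw [e] at h2
      exact h2.symm
    have h2 := card_dvd_of_le h1
    rwa [card_map_of_injective (MulAut.conj r⁻¹).injective] at h2
  have h5 : ¬ 5 ∣ Nat.card D := fun h => n7_5 (h.trans hDdvd)
  have h11 : ¬ 11 ∣ Nat.card D := fun h => n7_11 (h.trans hDdvd)
  have h19 : ¬ 19 ∣ Nat.card D := fun h => n7_19 (h.trans hDdvd)
  have h31 : ¬ 31 ∣ Nat.card D := fun h => n7_31 (h.trans hDdvd)
  obtain ⟨k, hk, hDc⟩ : ∃ k ≤ 4, Nat.card D = 3 ^ k * 49 := by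
    have h0 : Nat.card D ∣ 2 ^ 9 * (3 ^ 4 * (5 * (7 ^ 3 * (11 * (19 * 31))))) := by
      have := card_subgroup_dvd_card D
      rw [card_ON] at this
      exact this.trans (by norm_num)
    have c2 : (Nat.card D).Coprime 2 := ((Nat.Prime.coprime_iff_not_dvd Nat.prime_two).2 hD2).symm
    have c5 : (Nat.card D).Coprime 5 := ((Nat.Prime.coprime_iff_not_dvd (by norm_num)).2 h5).symm
    have c11 : (Nat.card D).Coprime (11 * (19 * 31)) := by
      refine Nat.Coprime.mul_right ((Nat.Prime.coprime_iff_not_dvd (by norm_num)).2 h11).symm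
        (Nat.Coprime.mul_right ((Nat.Prime.coprime_iff_not_dvd (by norm_num)).2 h19).symm
          ((Nat.Prime.coprime_iff_not_dvd (by norm_num)).2 h31).symm)
    have h1 := (c2.pow_right 9).dvd_of_dvd_mul_left h0
    rw [show 3 ^ 4 * (5 * (7 ^ 3 * (11 * (19 * 31)))) = 5 * ((11 * (19 * 31)) * (3 ^ 4 * 7 ^ 3)) by norm_num] at h1
    have h2 := c11.dvd_of_dvd_mul_left (c5.dvd_of_dvd_mul_left h1)
    obtain ⟨a, b, ha, hb, hab⟩ := (Nat.dvd_mul).1 h2
    obtain ⟨k, hk, rfl⟩ := (Nat.dvd_prime_pow Nat.prime_three).1 ha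
    obtain ⟨j, hj, rfl⟩ := (Nat.dvd_prime_pow (by norm_num : Nat.Prime 7)).1 hb
    refine ⟨k, hk, ?_⟩
    rw [← hab] at h49 h343' ⊢
    have hc : Nat.Coprime (7 ^ 2) (3 ^ k) := Nat.Coprime.pow _ _ (by norm_num)
    have hj2 : 2 ≤ j := by
      have h4 : 7 ^ 2 ∣ 7 ^ j := hc.dvd_of_dvd_mul_left (by simpa using h49)
      exact (Nat.pow_dvd_pow_iff_le_right (by norm_num)).1 h4
    have hj3 : j < 3 := by
      by_contra hj3
      apply h343'
      have : j = 3 := by omega
      rw [this]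
      exact ⟨3 ^ k, by ring⟩
    have : j = 2 := by omega
    rw [this]
    norm_num
  -- the Sylow 3-subgroup of `D` is normal
  have key : ∀ g : ON, orderOf g = 7 → (∀ e ∈ E, g * e * g⁻¹ ∈ E) → g * y' = y' * g := by
    intro g hg7 hgE
    have hgE' : ∀ e ∈ E, g⁻¹ * e * g ∈ E := by
      intro e he
      have h1 : E.map (MulAut.conj g).toMonoidHom = E := by
        apply Subgroup.eq_of_le_of_card_ge
        · rintro _ ⟨a, ha, rfl⟩
          exact hgE a ha
        · rw [card_map_of_injective (MulAut.conj g).injective]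
      rw [← h1] at he
      obtain ⟨a, ha, rfl⟩ := he
      have e1 : g⁻¹ * (MulAut.conj g).toMonoidHom a * g = a := by
        show g⁻¹ * (g * a * g⁻¹) * g = a
        group
      rwa [e1]
    have hgD : ∀ d ∈ D, g * d * g⁻¹ ∈ D := by
      intro d hd
      rw [hDm]
      intro e he
      have h1 := comm_conj (h := g) ((hDm d).1 hd _ (hgE' e he))
      have e1 : g * (g⁻¹ * e * g) * g⁻¹ = e := by group
      rwa [e1] at h1
    -- Sylow
    obtain ⟨S⟩ : Nonempty (Sylow 3 ↥D) := inferInstance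
    have hSc : Nat.card S = 3 ^ k := by
      have h1 := S.card_eq_multiplicity
      rw [hDc] at h1
      rw [h1]
      congr 1
      rw [Nat.factorization_mul (by positivity) (by norm_num), Nat.factorization_pow, Finsupp.add_apply,
        Finsupp.smul_apply, Nat.Prime.factorization_self Nat.prime_three,
        Nat.factorization_eq_zero_of_not_dvd (by norm_num : ¬ 3 ∣ 49)]
      simp
    have hn : (S : Subgroup ↥D).Normal := by
      rw [← normalizer_eq_top_iff]
      have hED' : E.subgroupOf D ≤ normalizer ((S : Subgroup ↥D) : Set ↥D) := by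
        intro e he
        rw [mem_normalizer_iff]
        intro s
        have h1 : e * s = s * e := Subtype.ext ((hDm s).1 s.2 e (mem_subgroupOf.1 he))
        rw [h1, mul_inv_cancel_right]
      have h1 : Nat.card ↥(E.subgroupOf D) = 49 := by
        rw [Nat.card_congr (subgroupOfEquivOfLe hED).toEquiv, hEc]
      have h2 : 3 ^ k * 49 ∣ Nat.card ↥(normalizer ((S : Subgroup ↥D) : Set ↥D)) := by
        refine Nat.Coprime.mul_dvd_of_dvd_of_dvd (Nat.Coprime.pow_left _ (by norm_num)) ?_ ?_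
        · rw [← hSc]
          exact card_dvd_of_le le_normalizer
        · rw [← h1]
          exact card_dvd_of_le hED'
      apply Subgroup.eq_top_of_le_card
      rw [hDc]
      exact Nat.le_of_dvd Nat.card_pos h2
    obtain ⟨K, hK⟩ : ∃ K : Subgroup ON, K = (S : Subgroup ↥D).map D.subtype := ⟨_, rfl⟩
    have hKD : K ≤ D := by
      rw [hK]
      rintro _ ⟨s, -, rfl⟩
      exact s.2
    have hKc : Nat.card K = 3 ^ k := by
      rw [hK, card_map_of_injective (subtype_injective _), hSc]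
    -- 3-subgroups of `D` are in `K`
    have hin : ∀ Q : Subgroup ON, Q ≤ D → IsPGroup 3 Q → Q ≤ K := by
      intro Q hQD hQ
      have h1 : IsPGroup 3 ↥(Q.subgroupOf D) := hQ.of_equiv (subgroupOfEquivOfLe hQD).symm
      have h2 : Q.subgroupOf D ≤ (S : Subgroup ↥D) := by
        have h3 : Q.subgroupOf D ⊓ normalizer ((S : Subgroup ↥D) : Set ↥D) = Q.subgroupOf D ⊓ (S : Subgroup ↥D) :=
          h1.inf_normalizer_sylow S
        rw [normalizer_eq_top_iff.2 hn, inf_top_eq] at h3
        rw [h3]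
        exact inf_le_right
      intro q hq
      rw [hK]
      exact ⟨⟨q, hQD hq⟩, h2 (mem_subgroupOf.2 hq), rfl⟩
    have hyK : y' ∈ K := by
      refine hin (zpowers y') ((zpowers_le).2 hyD) (IsPGroup.of_card (n := 1) ?_) (mem_zpowers y')
      rw [Nat.card_zpowers, hyo, pow_one]
    have hgK : ∀ s ∈ K, g * s * g⁻¹ ∈ K := by
      intro s hs
      have h1 : K.map (MulAut.conj g).toMonoidHom ≤ K := by
        apply hin
        · rintro _ ⟨a, ha, rfl⟩
          exact hgD a (hKD ha)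
        · exact (IsPGroup.of_card hKc).map _
      exact h1 ⟨s, hs, rfl⟩
    have hgN : g ∈ normalizer (K : Set ON) := by
      rw [mem_normalizer_iff]
      intro s
      refine ⟨hgK s, fun hs => ?_⟩
      have h1 : K.map (MulAut.conj g).toMonoidHom = K := by
        apply Subgroup.eq_of_le_of_card_ge
        · rintro _ ⟨a, ha, rfl⟩
          exact hgK a ha
        · rw [card_map_of_injective (MulAut.conj g).injective]
      rw [← h1] at hs
      obtain ⟨a, ha, he⟩ := hs
      have h2 : g * a * g⁻¹ = g * s * g⁻¹ := he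
      have h3 : a = s := mul_left_cancel (mul_right_cancel h2)
      rwa [← h3]
    have hmod := BpSpor.TwoPart.card_modEq hg7 hgN
    have hle : K ⊓ centralizer ({g} : Set ON) = K := by
      apply Subgroup.eq_of_le_of_card_ge inf_le_left
      obtain ⟨c, hc, hcc⟩ := (Nat.dvd_prime_pow Nat.prime_three).1 (hKc ▸ card_dvd_of_le (inf_le_left :
        K ⊓ centralizer ({g} : Set ON) ≤ K))
      rw [hKc, hcc] at hmod
      rw [hKc, hcc]
      interval_cases k <;> interval_cases c <;> first | exact le_refl _ | (exfalso; revert hmod; decide)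
    have h1 : y' ∈ K ⊓ centralizer ({g} : Set ON) := by rw [hle]; exact hyK
    exact (mem_cent.1 h1.2).symm
  -- the two transvections
  have hU7 : orderOf (φ (U 1 0 0)) = 7 := by
    refine orderOf_eq_prime ?_ ?_
    · rw [← map_pow, U_seven, map_one]
    · intro h
      exact one_ne (scalar_of_center (hφ _ h)).1.1
  have hT7 : orderOf (φ T) = 7 := by
    refine orderOf_eq_prime ?_ ?_
    · rw [← map_pow, T_pow, map_one]
    · intro h
      exact neg_ne (scalar_of_center (hφ _ h)).1.2.2.2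
  have hyT : φ T * y' = y' * φ T := by
    refine key _ hT7 fun e he => ?_
    obtain ⟨b, c, rfl⟩ := (hEm e).1 he
    rw [← map_mul, T_U, map_mul, mul_inv_cancel_right]
    exact (hEm _).2 ⟨_, _, rfl⟩
  have hI2 : orderOf (φ I) = 2 := by
    have h2F : Fact (Nat.Prime 2) := ⟨Nat.prime_two⟩
    refine orderOf_eq_prime ?_ ?_
    · rw [pow_two, ← map_mul, I_sq, map_one]
    · intro h
      exact neg_ne_one (scalar_of_center (hφ _ h)).2
  have hyI : y' * φ I = φ I * y' := by
    have c1 : Commute y' (φ (U 1 0 0)) := hyU 1 0 0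
    have c2 : Commute y' (φ T) := hyT.symm
    rw [I_eq, map_mul, map_mul, map_mul]
    exact (((c1.mul_right c2).mul_right c1).mul_right ((c1.mul_right c2).mul_right c1)).eq
  refine no_triple hyo hU7 hI2 ?_ (hyU 1 0 0) hyI
  rw [← map_mul, I_comm, map_mul]

end Cfsg.Agent.H19.Odd.ONSeven
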