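import Cfsg.Agent.HKS.ModPSpec

/-!
# A trace argument for permutations of strongly regular graphs (helper19)

* `main` : a permutation `σ` of the points of a strongly regular graph `(v, k, l, m)` with eigenvalues `r ≠ s` which preserves
  adjacency, has no fixed point and maps no point to an adjacent one: then `r - s` divides `k - s` (the trace of `σ` on the
  eigenspace of `r` is `-(k - s) / (r - s)` and an algebraic integer).
-/

set_option autoImplicit false

namespace Cfsg.Agent.H19.Odd.Srg

open Matrix Finset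

/-- A rational number which is an algebraic integer is an integer. -/
theorem int_of_isIntegral {q : ℚ} (h : IsIntegral ℤ (q : ℂ)) : ∃ n : ℤ, q = n := by
  have h1 : IsIntegral ℤ q := by
    have h2 : IsIntegral ℤ (algebraMap ℚ ℂ q) := h
    exact (isIntegral_algebraMap_iff (algebraMap ℚ ℂ).injective).1 h2
  obtain ⟨n, hn⟩ := IsIntegrallyClosed.isIntegral_iff.1 h1
  exact ⟨n, hn.symm⟩

variable {V : Type*} [Fintype V] [DecidableEq V]

/-- the algebra -/
theorem idem {A J : Matrix V V ℂ} {k r s m v : ℂ} (hv : v ≠ 0) (hAJ : A * J = k • J) (hJA : J * A = k • J)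
    (hJJ : J * J = v • J) (hJ : J ≠ 0) (hA : A * A = (r + s) • A + (-(r * s)) • (1 : Matrix V V ℂ) + m • J)
    (hne : r - s ≠ 0) :
    let E := (1 / (r - s)) • (A - s • (1 : Matrix V V ℂ) - ((k - s) / v) • J)
    E * E = E := by
  intro E
  have hrel : m * v = (k - s) * (k - r) := by
    have h1 : A * A * J = (k * k) • J := by
      rw [mul_assoc, hAJ, mul_smul_comm, hAJ, smul_smul]
    rw [hA, add_mul, add_mul, smul_mul_assoc, smul_mul_assoc, smul_mul_assoc, one_mul, hAJ, hJJ] at h1
    have h2 : ((r + s) * k + -(r * s) + m * v - k * k) • J = 0 := by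
      have h3 : ((r + s) * k + -(r * s) + m * v - k * k) • J =
          ((r + s) • k • J + (-(r * s)) • J + m • v • J) - (k * k) • J := by module
      rw [h3, h1, sub_self]
    rcases smul_eq_zero.1 h2 with h3 | h3
    · linear_combination h3
    · exact absurd h3 hJ
  set c : ℂ := (k - s) / v with hc
  have hcv : c * v = k - s := by rw [hc]; field_simp
  have hmc : m = c * (k - r) := by
    have h1 : m * v = c * (k - r) * v := by rw [hrel]; linear_combination -(k - r) * hcv
    exact mul_right_cancel₀ hv h1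
  have key : (A - s • (1 : Matrix V V ℂ) - c • J) * (A - s • (1 : Matrix V V ℂ) - c • J) =
      (r - s) • (A - s • (1 : Matrix V V ℂ) - c • J) := by
    simp only [sub_mul, mul_sub, smul_mul_assoc, mul_smul_comm, one_mul, mul_one, hAJ, hJA, hJJ, hA, smul_smul, smul_sub]
    have e1 : c * (c * v) = c * (k - s) := by rw [hcv]
    rw [e1, hmc]
    module
  show ((1 / (r - s)) • (A - s • (1 : Matrix V V ℂ) - c • J)) * ((1 / (r - s)) • (A - s • (1 : Matrix V V ℂ) - c • J)) = _
  rw [smul_mul_assoc, mul_smul_comm, key, smul_smul, smul_smul]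
  congr 1
  field_simp

variable (R : V → V → Prop) [DecidableRel R]

theorem main [Nonempty V] (hs : ∀ x y, R x y → R y x) (hi : ∀ x, ¬ R x x)
    {k l m : ℕ} (hk : ∀ x, (univ.filter fun z => R x z).card = k)
    (hl : ∀ x y, R x y → (univ.filter fun z => R x z ∧ R z y).card = l)
    (hm : ∀ x y, x ≠ y → ¬ R x y → (univ.filter fun z => R x z ∧ R z y).card = m)
    {r s : ℤ} (h1 : r + s = l - m) (h2 : r * s = m - k) (hne : r ≠ s)
    (σ : Equiv.Perm V) (hR : ∀ x y, R (σ x) (σ y) ↔ R x y)
    (hf : ∀ x, σ x ≠ x) (hn : ∀ x, ¬ R x (σ x)) : r - s ∣ (k : ℤ) - s := by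
  set A : Matrix V V ℂ := Matrix.of fun x y => if R x y then 1 else 0 with hA
  set P : Matrix V V ℂ := (Equiv.toPEquiv σ).toMatrix with hP
  set J : Matrix V V ℂ := Matrix.of fun _ _ => 1 with hJ
  have hP1 : ∀ (τ : Equiv.Perm V) (M : Matrix V V ℂ), (Equiv.toPEquiv τ).toMatrix * M = M.submatrix τ id :=
    fun τ M => PEquiv.toMatrix_toPEquiv_mul τ M
  have hP2 : ∀ M : Matrix V V ℂ, M * P = M.submatrix id σ.symm := fun M => PEquiv.mul_toMatrix_toPEquiv M σ
  have hv : ((Fintype.card V : ℕ) : ℂ) ≠ 0 := by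
    exact_mod_cast Fintype.card_ne_zero
  -- the products
  have e0 : ∀ n : ℕ, P ^ n = (Equiv.toPEquiv (σ ^ n)).toMatrix := by
    intro n
    induction n with
    | zero =>
      rw [pow_zero, pow_zero]
      ext x y
      rw [PEquiv.toMatrix_apply, one_apply]
      simp [Equiv.toPEquiv]
    | succ n ih =>
      rw [pow_succ, ih, hP1]
      ext x y
      rw [submatrix_apply, id, hP, PEquiv.toMatrix_apply, PEquiv.toMatrix_apply]
      simp only [Equiv.toPEquiv_apply, Option.mem_def, Option.some.injEq]
      rw [pow_succ', Equiv.Perm.mul_apply]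
  have e1 : P ^ orderOf σ = 1 := by
    rw [e0, pow_orderOf_eq_one]
    have := e0 0
    rw [pow_zero, pow_zero] at this
    exact this.symm
  have e2 : A * P = P * A := by
    rw [hP1 σ, hP2]
    ext x y
    simp only [submatrix_apply, id, hA, of_apply]
    have : R x (σ.symm y) ↔ R (σ x) y := by
      rw [← hR x (σ.symm y), Equiv.apply_symm_apply]
    simp only [this]
  have e3 : J * P = J := by
    rw [hP2]; rfl
  have e3' : P * J = J := by
    rw [hP1 σ]; rfl
  have ehk' : ∀ x, (univ.filter fun z => R z x).card = k := by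
    intro x
    rw [← hk x]
    congr 1
    ext z
    simp only [mem_filter, mem_univ, true_and]
    exact ⟨hs _ _, hs _ _⟩
  have e5 : A * J = (k : ℂ) • J := by
    ext x y
    rw [mul_apply]
    simp only [hA, hJ, of_apply, mul_one, Matrix.smul_apply, smul_eq_mul]
    rw [← hk x, card_filter, Nat.cast_sum]
    apply sum_congr rfl
    intro z _
    split_ifs <;> simp
  have e6 : J * A = (k : ℂ) • J := by
    ext x y
    rw [mul_apply]
    simp only [hA, hJ, of_apply, one_mul, Matrix.smul_apply, smul_eq_mul, mul_one]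
    rw [← ehk' y, card_filter, Nat.cast_sum]
    apply sum_congr rfl
    intro z _
    split_ifs <;> simp
  have e7 : J * J = ((Fintype.card V : ℕ) : ℂ) • J := by
    ext x y
    rw [mul_apply]
    simp [hJ]
  have e8 : J ≠ 0 := by
    intro h
    obtain ⟨x⟩ := ‹Nonempty V›
    have := congrFun (congrFun h x) x
    simp [hJ] at this
  have e4 : A * A = ((r : ℂ) + s) • A + (-((r : ℂ) * s)) • (1 : Matrix V V ℂ) + (m : ℂ) • J := by
    ext x y
    have h4 : (A * A) x y = ((univ.filter fun z => R x z ∧ R z y).card : ℂ) := by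
      rw [mul_apply]
      simp only [hA, of_apply]
      rw [card_filter, Nat.cast_sum]
      apply sum_congr rfl
      intro z _
      by_cases a1 : R x z <;> by_cases a2 : R z y <;> simp [a1, a2]
    have h1' : (r : ℂ) + s = l - m := by exact_mod_cast congrArg (Int.cast (R := ℂ)) h1
    have h2' : (r : ℂ) * s = m - k := by exact_mod_cast congrArg (Int.cast (R := ℂ)) h2
    rw [h4, h1', h2']
    simp only [Matrix.add_apply, Matrix.smul_apply, smul_eq_mul, hA, hJ, of_apply, one_apply]
    by_cases hxy : x = y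
    · subst hxy
      have h5 : (univ.filter fun z => R x z ∧ R z x) = univ.filter fun z => R x z := by
        ext z
        simp only [mem_filter, mem_univ, true_and]
        exact ⟨fun h => h.1, fun h => ⟨h, hs _ _ h⟩⟩
      rw [h5, hk, if_neg (hi x), if_pos rfl]
      ring
    · by_cases hr : R x y
      · rw [hl x y hr, if_pos hr, if_neg hxy]; ring
      · rw [hm x y hxy hr, if_neg hr, if_neg hxy]; ring
  have hne' : (r : ℂ) - s ≠ 0 := by
    rw [sub_ne_zero]
    exact_mod_cast hne
  have h5 := idem hv e5 e6 e7 e8 e4 hne'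
  set E := (1 / ((r : ℂ) - s)) • (A - (s : ℂ) • (1 : Matrix V V ℂ) - (((k : ℂ) - s) / ((Fintype.card V : ℕ) : ℂ)) • J) with hE
  have h6 : P * E = E * P := by
    rw [hE]
    simp only [mul_smul_comm, smul_mul_assoc, mul_sub, sub_mul, e2, e3, e3', mul_one, one_mul]
  -- the trace is integral
  have h7 : IsIntegral ℤ (P * E).trace := by
    rw [← Matrix.trace_toLin'_eq, Matrix.toLin'_mul, ← Module.End.mul_eq_comp]
    refine HKS.ModPSpec.isIntegral_trace_mul _ _ (orderOf σ) (orderOf_pos σ) ?_ ?_ ?_
    · rw [← Matrix.toLin'_pow, e1, Matrix.toLin'_one]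
      rfl
    · rw [Module.End.mul_eq_comp, ← Matrix.toLin'_mul]
      exact congrArg _ h5
    · rw [Module.End.mul_eq_comp, Module.End.mul_eq_comp, ← Matrix.toLin'_mul, ← Matrix.toLin'_mul, h6]
  -- the trace
  have t1 : P.trace = 0 := by
    simp only [Matrix.trace, diag_apply, hP, PEquiv.toMatrix_apply]
    refine sum_eq_zero fun x _ => if_neg ?_
    simp only [Equiv.toPEquiv_apply, Option.mem_def, Option.some.injEq]
    exact hf x
  have t2 : (P * A).trace = 0 := by
    rw [hP1 σ]
    simp only [Matrix.trace, diag_apply, hA, submatrix_apply, id, of_apply]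
    exact sum_eq_zero fun x _ => if_neg fun h => hn x (hs _ _ h)
  have t3 : J.trace = ((Fintype.card V : ℕ) : ℂ) := by
    simp [Matrix.trace, hJ]
  have t4 : (P * E).trace = ((-(((k : ℤ) - s : ℤ) : ℚ) / ((r - s : ℤ) : ℚ) : ℚ) : ℂ) := by
    rw [hE, mul_smul_comm, mul_sub, mul_sub, mul_smul_comm, mul_smul_comm, mul_one, e3', Matrix.trace_smul,
      Matrix.trace_sub, Matrix.trace_sub, Matrix.trace_smul, Matrix.trace_smul, t1, t2, t3]
    push_cast
    simp only [smul_eq_mul]
    field_simp
    ring
  rw [t4] at h7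
  obtain ⟨n, hn'⟩ := int_of_isIntegral h7
  have hne'' : ((r - s : ℤ) : ℚ) ≠ 0 := by
    have : r - s ≠ 0 := sub_ne_zero.2 hne
    exact_mod_cast this
  rw [div_eq_iff hne''] at hn'
  refine ⟨-n, ?_⟩
  have h8 : -(((k : ℤ) - s : ℤ)) = n * (r - s) := by exact_mod_cast hn'
  linear_combination -h8

end Cfsg.Agent.H19.Odd.Srg
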